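import Cfsg.Agent.H508.Dens.Main_m3
import Cfsg.Agent.H46.Gen.PairW
import Cfsg.Agent.KFacts.RgdSL
import Cfsg.Agent.OddHalf.Quat.KTwoOf_m3
import Mathlib
import Cfsg.Agent.H31.RC.Spor.Gen
import Cfsg.Agent.H607.R2.NineB_m3
import Cfsg.Agent.H605.MX.Orb
import Cfsg.Agent.H169.RG.LRG_m3
import Cfsg.Agent.H169.RG.MPsi_m3
import Cfsg.Agent.H660.RR.Crd_m3
import Cfsg.Agent.ChevFast.E6
import Cfsg.Agent.ChevFast.E7
import Cfsg.Agent.ChevFast.E8
import Cfsg.Agent.FastGrp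
import Cfsg.Agent.Prune
set_option linter.all false
prune_inst 0x7ffdfffbbff8f3ffffff7e7faedbdffc39939fffa4dffd437feae1ff0b9f03000dc56bad0de0c0fe0ec2c0b410a87843fb7eefffea6bdc7ffffd5ff45ffbee0fb5e7bd0951d788340f380ff783f07f8a7f3fffffffffffffffffffffffffffbefffdffffffff
open scoped Cfsg.Agent.FastGrp

-- part: H24/MX/Lay
section
/-!
# S3509 MIX, box M4t: the layers of a functional (helper24)

`lam` a functional on the root lattice, `Lv lam i` the roots with `i ≤ lam`, simply laced, `0 < i`: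

* `kap lam i : D.group k → (roots with lam = i) → k` : the coordinates on `Sup (Lv lam i)`, additive (`kap_mul`), with kernel
  `Sup (Lv lam (i + 1))` (`kap_ker`), surjective (`kap_surj`);
* `kap_tor`, `kap_map` : the torus, semilinear automorphisms;
* `kap_comm` : `kap (i + j) ⁅u, v⁆ = B (kap i u) (kap j v)`, `B` bilinear, if `lam ≤ i + j` on the roots.
-/

set_option autoImplicit false
set_option linter.unusedSectionVars false

namespace Cfsg.Agent.H24.MX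

open CoxeterSystem Cfsg Cfsg.Lie Cfsg.Lie.ChevalleyDatum
open Cfsg.Agent.ChevalleyStructure Cfsg.Agent.ChevalleyStructure.Elts Cfsg.Agent.ChevalleyStructure.CoxeterGeom
  Cfsg.Agent.ChevalleyStructure.CoxeterGeomTypes Cfsg.Agent.ChevalleyStructure.NPerm
open Cfsg.Agent.Tits.Roots Cfsg.Agent.Tits.Core Cfsg.Agent.Nodes.Reps Cfsg.Agent.Nodes.BNOf
  Cfsg.Agent.Nodes.RGDChev Cfsg.Agent.Nodes.Coroot Cfsg.Agent.Nodes.Unique Cfsg.Agent.Nodes.OppDec
open Cfsg.Agent.KFacts.RgdField Cfsg.Agent.KFacts.RgdChevCoord Cfsg.Agent.KFacts.RgdSL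
open Cfsg.Agent.BpExc.Tow Cfsg.Agent.BpExc.TowChev Cfsg.Agent.BpExc.Fr Cfsg.Agent.LangThm
open Cfsg.Agent.H46.Gen (Rt Pr NN)
open scoped commutatorElement

universe u

variable {D : ChevalleyDatum} {l : ℕ} {M : CoxeterMatrix (Fin l)} (hp : IsType D l M)

/-- the roots of level at least `i` -/
def Lv (lam : (Fin l → ℤ) →+ ℤ) (i : ℤ) : Set (Fin l → ℤ) :=
  {a | IsRoot M.toCoxeterSystem hp.isCartan a ∧ i ≤ lam a}

/-- `Lv (i + 1) ⊆ S ⊆ Lv i`, `0 < i` -/
structure Bt (lam : (Fin l → ℤ) →+ ℤ) (i : ℤ) (S : Set (Fin l → ℤ)) : Prop where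
  pos : 0 < i
  le : S ⊆ Lv hp lam i
  ge : Lv hp lam (i + 1) ⊆ S

variable {hp} {lam : (Fin l → ℤ) →+ ℤ} {i : ℤ} {S S' : Set (Fin l → ℤ)}

theorem Lv_mono {j : ℤ} (h : i ≤ j) : Lv hp lam j ⊆ Lv hp lam i := fun _ hx => ⟨hx.1, h.trans hx.2⟩

theorem bt_Lv (hi : 0 < i) : Bt hp lam i (Lv hp lam i) := ⟨hi, le_rfl, Lv_mono (by omega)⟩

theorem Bt.diff (B : Bt hp lam i S) {a : Fin l → ℤ} (ha : lam a = i) : Bt hp lam i (S \ {a}) := by
  refine ⟨B.pos, Set.sdiff_subset.trans B.le, fun x hx => ⟨B.ge hx, ?_⟩⟩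
  rintro rfl
  have := hx.2
  omega

theorem Bt.sub (B : Bt hp lam i S) {x : Fin l → ℤ} (hx : x ∈ S) : IsRoot M.toCoxeterSystem hp.isCartan x ∧ 0 < lam x :=
  ⟨(B.le hx).1, lt_of_lt_of_le B.pos (B.le hx).2⟩

theorem Bt.closed (hs : SL M.toCoxeterSystem hp.isCartan) (B : Bt hp lam i S) :
    Closed M.toCoxeterSystem hp.isCartan S := by
  have := finite_W hp M.toCoxeterSystem
  intro x hx y hy z hz
  by_cases hxy : x = y
  · subst hxy
    rw [btwn_self (B.le hx).1 hz]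
    exact hx
  · have h0 := (B.sub hx).2
    have h1 := (B.sub hy).2
    have h2 : x ≠ -y := by
      rintro rfl
      rw [map_neg] at h0
      omega
    have h3 := (hs.btwn (B.sub hx).1 (B.sub hy).1 hxy h2 hz).2
    refine B.ge ⟨hz.1, ?_⟩
    rw [h3, map_add]
    have := (B.le hx).2
    omega

variable {r : ℕ} [Fact r.Prime]

local notation "𝔽" => AlgebraicClosure (ZMod r)

/-- the group generated by the root groups of `S` -/
abbrev US (D : ChevalleyDatum) (l : ℕ) (k : Type u) [Field k] (S : Set (Fin l → ℤ)) : Subgroup ↥(D.group k) :=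
  RGD.Sup (XX D l k) S

variable (hs : SL M.toCoxeterSystem hp.isCartan)

include hs

theorem mem_inter {f : (Fin l → ℤ) →+ ℤ} (hS : ∀ x ∈ S, IsRoot M.toCoxeterSystem hp.isCartan x ∧ 0 < f x)
    (hS' : ∀ x ∈ S', IsRoot M.toCoxeterSystem hp.isCartan x ∧ 0 < f x) (hc : Closed M.toCoxeterSystem hp.isCartan S)
    (hc' : Closed M.toCoxeterSystem hp.isCartan S') {y : ↥(D.group 𝔽)} (h1 : y ∈ US D l 𝔽 S) (h2 : y ∈ US D l 𝔽 S') :
    y ∈ US D l 𝔽 (S ∩ S') := by
  have := finite_W hp M.toCoxeterSystem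
  have H := tow (k := 𝔽) hp M.toCoxeterSystem (locFin_of_isAlgebraic r _) r
  have hXL := XL_eq (k := 𝔽) hp (locFin_of_isAlgebraic r _)
  unfold US at h1 h2 ⊢
  rw [← hXL] at h1 h2 ⊢
  obtain ⟨j1, h3⟩ := H.mem_Sup.1 h1
  obtain ⟨j2, h4⟩ := H.mem_Sup.1 h2
  obtain ⟨j, h5, h6⟩ := H.dir j1 j2
  have h7 := Cfsg.Agent.KFacts.RgdInd.inf_eq_of_pos (H.rgd j) f hS hS' hc hc'
  refine H.mem_Sup.2 ⟨j, ?_⟩
  rw [← h7]
  exact Subgroup.mem_inf.2 ⟨H.mono_Sup _ h5 h3, H.mono_Sup _ h6 h4⟩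

theorem Bt.mem_inter (B : Bt hp lam i S) (B' : Bt hp lam i S') {y : ↥(D.group 𝔽)} (h1 : y ∈ US D l 𝔽 S)
    (h2 : y ∈ US D l 𝔽 S') : y ∈ US D l 𝔽 (S ∩ S') :=
  MX.mem_inter (hp := hp) hs (f := lam) (fun _ hx => B.sub hx) (fun _ hx => B'.sub hx) (B.closed hs) (B'.closed hs) h1 h2

theorem Bt.x_inf (B : Bt hp lam i S) {b : Fin l → ℤ} (hb : IsRoot M.toCoxeterSystem hp.isCartan b) (h0 : 0 < lam b)
    (hbS : b ∉ S) {y : ↥(D.group 𝔽)} (h1 : y ∈ XX D l 𝔽 b) (h2 : y ∈ US D l 𝔽 S) : y = 1 := by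
  have := finite_W hp M.toCoxeterSystem
  have h3 := MX.mem_inter (hp := hp) hs (f := lam) (S := {b}) (S' := S) (fun x hx => by
      rw [Set.mem_singleton_iff] at hx
      subst hx
      exact ⟨hb, h0⟩) (fun _ hx => B.sub hx) (Cfsg.Agent.KFacts.RgdInd.closed_singleton (h := hp.isCartan) hb) (B.closed hs)
    (RGD.le_Sup (Set.mem_singleton b) h1) h2
  rw [Set.singleton_inter_eq_empty.2 hbS] at h3
  unfold US at h3
  rw [Sup_empty] at h3
  exact Subgroup.mem_bot.1 h3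

omit hs

variable (hp) in
theorem xx_comm {x : Fin l → ℤ} (hx : IsRoot M.toCoxeterSystem hp.isCartan x) {a b : ↥(D.group 𝔽)}
    (ha : a ∈ XX D l 𝔽 x) (hb : b ∈ XX D l 𝔽 x) : a * b = b * a := by
  have C := (coordsL (k := 𝔽) hp M.toCoxeterSystem (locFin_of_isAlgebraic r _) r).coord x hx
  obtain ⟨s, rfl⟩ := (C.mem _).1 ha
  obtain ⟨t, rfl⟩ := (C.mem _).1 hb
  rw [← C.add, ← C.add, add_comm]

/-- **The groups between two layers are normal.** -/
theorem Bt.le_norm (B : Bt hp lam i S) :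
    US D l 𝔽 (Lv hp lam 1) ≤ Subgroup.normalizer (US D l 𝔽 S : Set ↥(D.group 𝔽)) := by
  have key : ∀ c ∈ Lv hp lam 1, ∀ x ∈ XX D l 𝔽 c, ∀ g ∈ US D l 𝔽 S, x * g * x⁻¹ ∈ US D l 𝔽 S := by
    intro c hc x hx
    have h1 : US D l 𝔽 S ≤ (US D l 𝔽 S).comap (MulAut.conj x).toMonoidHom := by
      refine RGD.Sup_le fun b hb g hg => ?_
      change x * g * x⁻¹ ∈ US D l 𝔽 S
      have h3 : x * g * x⁻¹ = ⁅x, g⁆ * g := by rw [commutatorElement_def]; group
      rw [h3]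
      refine mul_mem ?_ (RGD.le_Sup hb hg)
      have hc1 := hc.2
      have hb1 := B.sub hb
      by_cases hcb : c = b
      · subst hcb
        rw [commutatorElement_eq_one_iff_mul_comm.2 (xx_comm hp hb1.1 hx hg)]
        exact one_mem _
      · have h4 : c ≠ -b := by
          rintro rfl
          rw [map_neg] at hc1
          omega
        have h5 := Cfsg.Agent.H508.Dens.comm_mem_int hp M.toCoxeterSystem hc.1 hb1.1 hcb h4 hx hg
        refine RGD.Sup_mono ?_ h5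
        rintro z ⟨hz, m, n, hm, hn, rfl⟩
        refine B.ge ⟨hz, ?_⟩
        rw [map_add, map_zsmul, map_zsmul, smul_eq_mul, smul_eq_mul]
        have h6 := (B.le hb).2
        have h7 := B.pos
        nlinarith only [hp, hc1, hb1, hm, hn, h6]
    exact fun g hg => h1 hg
  refine RGD.Sup_le fun c hc x hx => ?_
  rw [Subgroup.mem_normalizer_iff]
  intro g
  refine ⟨fun hg => key c hc x hx g hg, fun hg => ?_⟩
  have h1 := key c hc x⁻¹ (inv_mem hx) _ hg
  have h2 : x⁻¹ * (x * g * x⁻¹) * x⁻¹⁻¹ = g := by group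
  rwa [h2] at h1

theorem Bt.conj (B : Bt hp lam i S) {u s : ↥(D.group 𝔽)} (hu : u ∈ US D l 𝔽 (Lv hp lam 1)) (h : s ∈ US D l 𝔽 S) :
    u * s * u⁻¹ ∈ US D l 𝔽 S :=
  (Subgroup.mem_normalizer_iff.1 (B.le_norm hu) s).1 h

theorem Bt.conj' (B : Bt hp lam i S) {u s : ↥(D.group 𝔽)} (hu : u ∈ US D l 𝔽 (Lv hp lam 1)) (h : s ∈ US D l 𝔽 S) :
    u⁻¹ * s * u ∈ US D l 𝔽 S := by
  have := B.conj (inv_mem hu) h
  rwa [inv_inv] at this

theorem US_le_one (hi : 0 < i) : US D l 𝔽 (Lv hp lam i) ≤ US D l 𝔽 (Lv hp lam 1) := RGD.Sup_mono (Lv_mono (by omega))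

/-! ### the coordinates -/

section

variable (hp)

/-- the roots of level `i` -/
abbrev Rl (lam : (Fin l → ℤ) →+ ℤ) (i : ℤ) : Type := {b : Fin l → ℤ // IsRoot M.toCoxeterSystem hp.isCartan b ∧ lam b = i}

/-- `c` is the coordinate of `u` at `b` -/
def Kp (lam : (Fin l → ℤ) →+ ℤ) (i : ℤ) (b : Fin l → ℤ) (c : 𝔽) (u : ↥(D.group 𝔽)) : Prop :=
  ∃ s ∈ US D l 𝔽 (Lv hp lam i \ {b}), u = xc hp b c * s

open Classical in
/-- the coordinates -/
noncomputable def kap (lam : (Fin l → ℤ) →+ ℤ) (i : ℤ) (u : ↥(D.group 𝔽)) : Rl hp lam i → 𝔽 := fun b =>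
  if h : ∃ c, Kp hp lam i b.1 c u then h.choose else 0

end

variable (hp) in
theorem coord {x : Fin l → ℤ} (hx : IsRoot M.toCoxeterSystem hp.isCartan x) :
    Coord (TT D 𝔽) (XX D l 𝔽 x) (xc hp x) (ch hp x) :=
  (coordsL (k := 𝔽) hp M.toCoxeterSystem (locFin_of_isAlgebraic r _) r).coord x hx

variable (hp) in
theorem xc_mem {x : Fin l → ℤ} (hx : IsRoot M.toCoxeterSystem hp.isCartan x) (c : 𝔽) : xc hp x c ∈ XX D l 𝔽 x :=
  ((coord hp hx).mem _).2 ⟨c, rfl⟩

theorem Kp.eq {b : Fin l → ℤ} {c c' : 𝔽} {u : ↥(D.group 𝔽)} (hs : SL M.toCoxeterSystem hp.isCartan) (hi : 0 < i)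
    (hb : IsRoot M.toCoxeterSystem hp.isCartan b) (hbi : lam b = i)
    (h : Kp hp lam i b c u) (h' : Kp hp lam i b c' u) : c = c' := by
  obtain ⟨s, hs1, e⟩ := h
  obtain ⟨s', hs1', e'⟩ := h'
  have h1 : (xc hp b c')⁻¹ * xc hp b c = s' * s⁻¹ := by
    rw [inv_mul_eq_iff_eq_mul, ← mul_assoc, ← e', e, mul_inv_cancel_right]
  have h2 := ((bt_Lv hi).diff hbi).x_inf hs hb (by rw [hbi]; exact hi) (fun h => h.2 rfl)
    (mul_mem (inv_mem (xc_mem hp hb c')) (xc_mem hp hb c)) (by rw [h1]; exact (mul_mem hs1' (inv_mem hs1) :))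
  rw [inv_mul_eq_one] at h2
  exact (coord hp hb).inj h2.symm

theorem Kp.exists {b : Fin l → ℤ} {u : ↥(D.group 𝔽)} (hi : 0 < i)
    (hb : IsRoot M.toCoxeterSystem hp.isCartan b) (hbi : lam b = i) (hu : u ∈ US D l 𝔽 (Lv hp lam i)) :
    ∃ c, Kp hp lam i b c u := by
  have hbL : b ∈ Lv hp lam i := ⟨hb, hbi.ge⟩
  have hn : XX D l 𝔽 b ≤ Subgroup.normalizer (US D l 𝔽 (Lv hp lam i \ {b}) : Set ↥(D.group 𝔽)) :=
    le_trans (RGD.le_Sup (S := Lv hp lam 1) (Lv_mono (by omega) hbL)) ((bt_Lv hi).diff hbi).le_norm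
  have h1 : u ∈ ((XX D l 𝔽 b ⊔ US D l 𝔽 (Lv hp lam i \ {b}) : Subgroup _) : Set ↥(D.group 𝔽)) := by
    refine (?_ : US D l 𝔽 (Lv hp lam i) ≤ _) hu
    refine RGD.Sup_le fun z hz => ?_
    by_cases hz0 : z = b
    · subst hz0; exact le_sup_left
    · exact le_trans (RGD.le_Sup (S := Lv hp lam i \ {b}) ⟨hz, hz0⟩) le_sup_right
  rw [Subgroup.coe_mul_of_left_le_normalizer_right _ _ hn, Set.mem_mul] at h1
  obtain ⟨x, hx, s, hsm, e⟩ := h1
  obtain ⟨c, rfl⟩ := ((coord hp hb).mem _).1 hx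
  exact ⟨c, s, hsm, e.symm⟩

section

variable (hs : SL M.toCoxeterSystem hp.isCartan) (hi : 0 < i)

include hs hi

theorem kap_eq {b : Rl hp lam i} {c : 𝔽} {u : ↥(D.group 𝔽)} (h : Kp hp lam i b.1 c u) : kap hp lam i u b = c := by
  have h1 : ∃ c, Kp hp lam i b.1 c u := ⟨c, h⟩
  unfold kap
  rw [dif_pos h1]
  exact h1.choose_spec.eq hs hi b.2.1 b.2.2 h

omit hs in
theorem kap_spec {u : ↥(D.group 𝔽)} (hu : u ∈ US D l 𝔽 (Lv hp lam i)) (b : Rl hp lam i) :
    Kp hp lam i b.1 (kap hp lam i u b) u := by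
  have h1 := Kp.exists hi b.2.1 b.2.2 hu
  unfold kap
  rw [dif_pos h1]
  exact h1.choose_spec

theorem kap_mul {u v : ↥(D.group 𝔽)} (hu : u ∈ US D l 𝔽 (Lv hp lam i)) (hv : v ∈ US D l 𝔽 (Lv hp lam i)) :
    kap hp lam i (u * v) = kap hp lam i u + kap hp lam i v := by
  funext b
  obtain ⟨s, h1, e1⟩ := kap_spec hi hu b
  obtain ⟨t, h2, e2⟩ := kap_spec hi hv b
  rw [Pi.add_apply]
  refine kap_eq hs hi ⟨(xc hp b.1 (kap hp lam i v b))⁻¹ * s * xc hp b.1 (kap hp lam i v b) * t, ?_, ?_⟩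
  · refine mul_mem (((bt_Lv hi).diff b.2.2).conj' ?_ h1) h2
    exact RGD.le_Sup (S := Lv hp lam 1) (Lv_mono (by omega) ⟨b.2.1, b.2.2.ge⟩) (xc_mem hp b.2.1 _)
  · rw [(coord hp b.2.1).add]
    conv_lhs => rw [e1, e2]
    group

theorem kap_one : kap hp lam i (1 : ↥(D.group 𝔽)) = 0 := by
  have h1 := kap_mul (lam := lam) hs hi (one_mem (US D l 𝔽 (Lv hp lam i))) (one_mem _)
  rw [mul_one] at h1
  exact (left_eq_add.1 h1)

theorem kap_inv {u : ↥(D.group 𝔽)} (hu : u ∈ US D l 𝔽 (Lv hp lam i)) : kap hp lam i u⁻¹ = -kap hp lam i u := by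
  have h1 := kap_mul hs hi (inv_mem hu) hu
  rw [inv_mul_cancel, kap_one hs hi] at h1
  exact (eq_neg_of_add_eq_zero_left h1.symm)

theorem kap_of_gt {u : ↥(D.group 𝔽)} (hu : u ∈ US D l 𝔽 (Lv hp lam (i + 1))) : kap hp lam i u = 0 := by
  funext b
  refine kap_eq hs hi ⟨u, ?_, ?_⟩
  · refine RGD.Sup_mono (S := Lv hp lam (i + 1)) (fun x hx => ?_) hu
    refine ⟨Lv_mono (by omega) hx, ?_⟩
    rintro rfl
    have h1 := hx.2
    have h2 := b.2.2
    omega
  · rw [Pi.zero_apply, (coord hp b.2.1).zero, one_mul]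

open Classical in
theorem kap_xc (b : Rl hp lam i) (c : 𝔽) : kap hp lam i (xc hp b.1 c) = Pi.single b c := by
  funext b'
  by_cases h : b' = b
  · subst h
    rw [Pi.single_eq_same]
    exact kap_eq hs hi ⟨1, one_mem _, (mul_one _).symm⟩
  · rw [Pi.single_eq_of_ne h]
    refine kap_eq hs hi ⟨xc hp b.1 c, ?_, ?_⟩
    · refine RGD.le_Sup (S := Lv hp lam i \ {b'.1}) ⟨⟨b.2.1, b.2.2.ge⟩, ?_⟩ (xc_mem hp b.2.1 c)
      intro h1
      exact h (Subtype.ext h1.symm)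
    · rw [(coord hp b'.2.1).zero, one_mul]

/-- **The kernel.** -/
theorem kap_ker {u : ↥(D.group 𝔽)} (hu : u ∈ US D l 𝔽 (Lv hp lam i)) (h0 : kap hp lam i u = 0) :
    u ∈ US D l 𝔽 (Lv hp lam (i + 1)) := by
  classical
  have := finite_W hp M.toCoxeterSystem
  have hfin : {x | IsRoot M.toCoxeterSystem hp.isCartan x}.Finite := RGD.finite_roots
  have key : ∀ s : Finset (Fin l → ℤ), (∀ b ∈ s, IsRoot M.toCoxeterSystem hp.isCartan b ∧ lam b = i) →
      Bt hp lam i (Lv hp lam i \ (s : Set (Fin l → ℤ))) ∧ u ∈ US D l 𝔽 (Lv hp lam i \ (s : Set (Fin l → ℤ))) := by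
    intro s
    induction s using Finset.induction_on with
    | empty =>
      intro _
      rw [Finset.coe_empty, Set.sdiff_empty]
      exact ⟨bt_Lv hi, hu⟩
    | insert b s _ ih =>
      intro hb
      obtain ⟨B, h1⟩ := ih fun x hx => hb x (Finset.mem_insert_of_mem hx)
      have hb1 := hb b (Finset.mem_insert_self b s)
      have e : Lv hp lam i \ ((insert b s : Finset (Fin l → ℤ)) : Set (Fin l → ℤ)) =
          (Lv hp lam i \ (s : Set (Fin l → ℤ))) ∩ (Lv hp lam i \ {b}) := by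
        ext x
        simp only [Finset.coe_insert, Set.mem_sdiff, Set.mem_insert_iff, Set.mem_inter_iff, Set.mem_singleton_iff]
        (clear * -; tauto)
      rw [e]
      refine ⟨⟨hi, fun x hx => hx.1.1, fun x hx => ⟨B.ge hx, ((bt_Lv hi).diff hb1.2).ge hx⟩⟩, ?_⟩
      refine B.mem_inter hs ((bt_Lv hi).diff hb1.2) h1 ?_
      obtain ⟨t, h2, e2⟩ := kap_spec hi hu ⟨b, hb1⟩
      rw [h0, Pi.zero_apply, (coord hp hb1.1).zero, one_mul] at e2
      rwa [e2]
  obtain ⟨-, h1⟩ := key (hfin.toFinset.filter fun b => lam b = i) (fun b hb => by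
    rw [Finset.mem_filter, Set.Finite.mem_toFinset] at hb
    exact hb)
  refine RGD.Sup_mono (fun x hx => ?_) h1
  refine ⟨hx.1.1, ?_⟩
  have h2 : ¬ lam x = i := fun h => hx.2 (by
    rw [Finset.mem_coe, Finset.mem_filter, Set.Finite.mem_toFinset]
    exact ⟨hx.1.1, h⟩)
  have h3 := hx.1.2
  omega

omit hs hi in
theorem finite_Rl : Finite (Rl hp lam i) := by
  have := finite_W hp M.toCoxeterSystem
  have hfin : {x | IsRoot M.toCoxeterSystem hp.isCartan x}.Finite := RGD.finite_roots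
  exact (hfin.subset fun x (hx : IsRoot M.toCoxeterSystem hp.isCartan x ∧ lam x = i) => hx.1).to_subtype

/-- **Surjectivity.** -/
theorem kap_surj (f : Rl hp lam i → 𝔽) : ∃ u ∈ US D l 𝔽 (Lv hp lam i), kap hp lam i u = f := by
  classical
  have := finite_Rl (hp := hp) (lam := lam) (i := i)
  have := Fintype.ofFinite (Rl hp lam i)
  have key : ∀ s : Finset (Rl hp lam i), ∃ u ∈ US D l 𝔽 (Lv hp lam i), kap hp lam i u = ∑ b ∈ s, Pi.single b (f b) := by
    intro s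
    induction s using Finset.induction_on with
    | empty => exact ⟨1, one_mem _, by rw [kap_one hs hi, Finset.sum_empty]⟩
    | insert b s hb ih =>
      obtain ⟨u, hu, e⟩ := ih
      have h1 : xc hp b.1 (f b) ∈ US D l 𝔽 (Lv hp lam i) :=
        RGD.le_Sup (S := Lv hp lam i) ⟨b.2.1, b.2.2.ge⟩ (xc_mem hp b.2.1 _)
      refine ⟨xc hp b.1 (f b) * u, mul_mem h1 hu, ?_⟩
      rw [kap_mul hs hi h1 hu, kap_xc hs hi, e, Finset.sum_insert hb]
  obtain ⟨u, hu, e⟩ := key Finset.univ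
  refine ⟨u, hu, ?_⟩
  rw [e]
  exact Finset.univ_sum_single f

/-- **The torus.** -/
theorem kap_tor {t u : ↥(D.group 𝔽)} (ht : t ∈ TT D 𝔽) (hu : u ∈ US D l 𝔽 (Lv hp lam i)) (b : Rl hp lam i) :
    kap hp lam i (t * u * t⁻¹) b = ch hp b.1 t * kap hp lam i u b := by
  obtain ⟨s, h1, e⟩ := kap_spec hi hu b
  refine kap_eq hs hi ⟨t * s * t⁻¹, ?_, ?_⟩
  · have key : US D l 𝔽 (Lv hp lam i \ {b.1}) ≤ (US D l 𝔽 (Lv hp lam i \ {b.1})).comap (MulAut.conj t).toMonoidHom := by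
      refine RGD.Sup_le fun a ha g hg => ?_
      change t * g * t⁻¹ ∈ US D l 𝔽 (Lv hp lam i \ {b.1})
      obtain ⟨c, rfl⟩ := ((coord hp ha.1.1).mem _).1 hg
      rw [(coord hp ha.1.1).act t ht]
      exact RGD.le_Sup (S := Lv hp lam i \ {b.1}) ha (xc_mem hp ha.1.1 _)
    exact key h1
  · rw [← (coord hp b.2.1).act t ht]
    conv_lhs => rw [e]
    group

/-- **Automorphisms.** -/
theorem kap_map {α : MulAut ↥(D.group 𝔽)} {θ : (Fin l → ℤ) ≃+ (Fin l → ℤ)}
    (F : Fr M.toCoxeterSystem hp.isCartan (TT D 𝔽) (XX D l 𝔽) α θ) (hlam : ∀ x, lam (θ x) = lam x)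
    {u : ↥(D.group 𝔽)} (hu : u ∈ US D l 𝔽 (Lv hp lam i)) (b b' : Rl hp lam i) (hb : b'.1 = θ b.1) {g : 𝔽 → 𝔽}
    (hg : ∀ c, α (xc hp b.1 c) = xc hp (θ b.1) (g c)) : kap hp lam i (α u) b' = g (kap hp lam i u b) := by
  obtain ⟨s, h1, e⟩ := kap_spec hi hu b
  refine kap_eq hs hi ⟨α s, ?_, ?_⟩
  · refine (F.mem_Sup (S := Lv hp lam i \ {b.1}) (fun a ha => ha.1.1) (fun a => ?_) s).2 h1
    rw [hb]
    constructor
    · rintro ⟨⟨h2, h3⟩, h4⟩
      rw [hlam] at h3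
      exact ⟨⟨(F.root a).1 h2, h3⟩, fun h5 => h4 (by rw [Set.mem_singleton_iff] at h5 ⊢; rw [h5])⟩
    · rintro ⟨⟨h2, h3⟩, h4⟩
      refine ⟨⟨(F.root a).2 h2, by rw [hlam]; exact h3⟩, fun h5 => h4 ?_⟩
      rw [Set.mem_singleton_iff] at h5 ⊢
      exact θ.injective h5
  · rw [hb, ← hg, ← map_mul, ← e]

omit hs hi in
theorem US_map {α : MulAut ↥(D.group 𝔽)} {θ : (Fin l → ℤ) ≃+ (Fin l → ℤ)}
    (F : Fr M.toCoxeterSystem hp.isCartan (TT D 𝔽) (XX D l 𝔽) α θ) (hlam : ∀ x, lam (θ x) = lam x)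
    {u : ↥(D.group 𝔽)} : α u ∈ US D l 𝔽 (Lv hp lam i) ↔ u ∈ US D l 𝔽 (Lv hp lam i) :=
  F.mem_Sup (S := Lv hp lam i) (fun a ha => ha.1) (fun a => by
    constructor
    · rintro ⟨h2, h3⟩
      rw [hlam] at h3
      exact ⟨(F.root a).1 h2, h3⟩
    · rintro ⟨h2, h3⟩
      exact ⟨(F.root a).2 h2, by rw [hlam]; exact h3⟩) u

end

end Cfsg.Agent.H24.MX
end

-- part: H24/MX/Com
section
/-!
# S3509 MIX, box M4t: the commutator form of two layers (helper24)

`exists_form` : `lam ≤ i + j` on the roots, `0 < i`, `0 < j`, simply laced: `kap (i + j) ⁅u, v⁆ = B (kap i u) (kap j v)`,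
`B` bilinear.
-/

set_option autoImplicit false
set_option linter.unusedSectionVars false

namespace Cfsg.Agent.H24.MX

open CoxeterSystem Cfsg Cfsg.Lie Cfsg.Lie.ChevalleyDatum
open Cfsg.Agent.ChevalleyStructure Cfsg.Agent.ChevalleyStructure.Elts Cfsg.Agent.ChevalleyStructure.CoxeterGeom
  Cfsg.Agent.ChevalleyStructure.CoxeterGeomTypes Cfsg.Agent.ChevalleyStructure.NPerm
open Cfsg.Agent.Tits.Roots Cfsg.Agent.Tits.Core Cfsg.Agent.Nodes.Reps Cfsg.Agent.Nodes.BNOf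
  Cfsg.Agent.Nodes.RGDChev Cfsg.Agent.Nodes.Coroot Cfsg.Agent.Nodes.Unique Cfsg.Agent.Nodes.OppDec
open Cfsg.Agent.KFacts.RgdField Cfsg.Agent.KFacts.RgdChevCoord Cfsg.Agent.KFacts.RgdSL
open Cfsg.Agent.BpExc.Tow Cfsg.Agent.BpExc.TowChev Cfsg.Agent.BpExc.Fr Cfsg.Agent.LangThm
open Cfsg.Agent.H46.Gen (Rt Pr NN xc_br)
open scoped commutatorElement

section abs

variable {Y I : Type*} [Fintype I] [DecidableEq I] [Group Y] {X : (I → ℤ) → Subgroup Y}

theorem comm_of_gen {N H : Subgroup Y} (hN : H ≤ Subgroup.normalizer (N : Set Y)) {S S' : Set (I → ℤ)}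
    (hS : RGD.Sup X S ≤ H) (hS' : RGD.Sup X S' ≤ H)
    (hg : ∀ x ∈ S, ∀ y ∈ S', ∀ a ∈ X x, ∀ b ∈ X y, ⁅a, b⁆ ∈ N) {a b : Y} (ha : a ∈ RGD.Sup X S)
    (hb : b ∈ RGD.Sup X S') : ⁅a, b⁆ ∈ N := by
  have hconj : ∀ g ∈ H, ∀ c ∈ N, g * c * g⁻¹ ∈ N := fun g hg c hc =>
    (Subgroup.mem_normalizer_iff.1 (hN hg) c).1 hc
  have key : ∀ b : Y, ∃ C : Subgroup Y, ∀ a, a ∈ C ↔ a ∈ H ∧ ⁅a, b⁆ ∈ N := by
    intro b
    refine ⟨{ carrier := {a | a ∈ H ∧ ⁅a, b⁆ ∈ N}
              mul_mem' := ?_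
              one_mem' := ⟨one_mem _, by rw [commutatorElement_one_left]; exact one_mem _⟩
              inv_mem' := ?_ }, fun a => Iff.rfl⟩
    · rintro a a' ⟨ha, ha'⟩ ⟨hb, hb'⟩
      refine ⟨mul_mem ha hb, ?_⟩
      have e : ⁅a * a', b⁆ = a * ⁅a', b⁆ * a⁻¹ * ⁅a, b⁆ := by simp only [commutatorElement_def]; group
      rw [e]
      exact mul_mem (hconj a ha _ hb') ha'
    · rintro a ⟨ha, ha'⟩
      refine ⟨inv_mem ha, ?_⟩
      have e : ⁅a⁻¹, b⁆ = a⁻¹ * (⁅a, b⁆)⁻¹ * (a⁻¹)⁻¹ := by simp only [commutatorElement_def]; group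
      rw [e]
      exact hconj _ (inv_mem ha) _ (inv_mem ha')
  have h1 : ∀ y ∈ S', ∀ b ∈ X y, ∀ a ∈ RGD.Sup X S, ⁅a, b⁆ ∈ N := by
    intro y hy b hb a ha
    obtain ⟨C, hC⟩ := key b
    have h2 : RGD.Sup X S ≤ C := RGD.Sup_le fun x hx a ha =>
      (hC a).2 ⟨hS (RGD.le_Sup hx ha), hg x hx y hy a ha b hb⟩
    exact ((hC a).1 (h2 ha)).2
  obtain ⟨C, hC⟩ := key a
  have h2 : RGD.Sup X S' ≤ C := RGD.Sup_le fun y hy b hb => (hC b).2 ⟨hS' (RGD.le_Sup hy hb), by
    have h3 := inv_mem (h1 y hy b hb a ha)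
    rwa [commutatorElement_inv] at h3⟩
  have h3 := inv_mem ((hC b).1 (h2 hb)).2
  rwa [commutatorElement_inv] at h3

theorem sup_induction {S : Set (I → ℤ)} {P : Y → Prop} {u : Y} (hu : u ∈ RGD.Sup X S)
    (h : ∀ a ∈ S, ∀ u ∈ X a, P u) (h1 : P 1) (hm : ∀ u v, P u → P v → P (u * v)) : P u := by
  have hu' : u ∈ ⨆ z : S, X z.1 := hu
  exact Subgroup.iSup_induction (fun z : S => X z.1) (C := fun u => P u) hu' (fun z u hu => h z.1 z.2 u hu) h1
    fun _ _ h1 h2 => hm _ _ h1 h2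

end abs

variable {D : ChevalleyDatum} {l : ℕ} {M : CoxeterMatrix (Fin l)} {hp : IsType D l M}
  {lam : (Fin l → ℤ) →+ ℤ} {i j : ℤ} {r : ℕ} [Fact r.Prime]

local notation "𝔽" => AlgebraicClosure (ZMod r)

variable (hp) in
theorem pr_of (hs : SL M.toCoxeterSystem hp.isCartan) {x y : Fin l → ℤ} (hx : IsRoot M.toCoxeterSystem hp.isCartan x)
    (hy : IsRoot M.toCoxeterSystem hp.isCartan y) (hxy : IsRoot M.toCoxeterSystem hp.isCartan (x + y)) :
    Pr D l x y := by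
  have := finite_W hp M.toCoxeterSystem
  have hroot : ∀ {z}, IsRoot M.toCoxeterSystem hp.isCartan z ↔ Rt D l z := fun {z} => isRoot_iff hp _ z
  have hbd : ∀ {z w}, IsRoot M.toCoxeterSystem hp.isCartan z → IsRoot M.toCoxeterSystem hp.isCartan w →
      -2 ≤ cpr M.toCoxeterSystem hp.isCartan z w ∧ cpr M.toCoxeterSystem hp.isCartan z w ≤ 2 := fun {z w} hz hw => by
    rcases hs.cases hz hw with ⟨-, h⟩ | ⟨-, h⟩ | ⟨-, -, h, h'⟩ <;> omega
  -- `⟨x, y^∨⟩ = -1`
  have h1 : cpr M.toCoxeterSystem hp.isCartan x y = -1 := by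
    have h2 := hbd hxy hy
    rw [cpr_add _ _ _ _ hy, cpr_self _ _ hy] at h2
    rcases hs.cases hx hy with ⟨rfl, h⟩ | ⟨rfl, h⟩ | ⟨hne, hne', h, h'⟩
    · omega
    · exfalso
      rw [neg_add_cancel] at hxy
      exact hxy.ne_zero rfl
    · have h3 : cpr M.toCoxeterSystem hp.isCartan x y ≤ 0 := by omega
      rcases hs.cases hxy hy with ⟨e, -⟩ | ⟨e, h4⟩ | ⟨-, -, h4, h5⟩
      · exfalso
        rw [add_eq_right] at e
        exact hx.ne_zero e
      · rw [cpr_add _ _ _ _ hy, cpr_self _ _ hy] at h4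
        omega
      · rw [cpr_add _ _ _ _ hy, cpr_self _ _ hy] at h5
        omega
  have h1' : cpr M.toCoxeterSystem hp.isCartan y x = -1 := by rw [← hs x y hx hy, h1]
  refine ⟨hroot.1 hx, hroot.1 hy, hroot.1 hxy, fun h => ?_, fun h => ?_, fun h => ?_⟩
  · have h2 := hbd (hroot.2 h) hx
    rw [sub_eq_add_neg, cpr_add _ _ _ _ hx, cpr_neg _ _ _ hx, cpr_self _ _ hx] at h2
    omega
  · have h2 := hbd (hroot.2 h) hx
    rw [two_smul, cpr_add _ _ _ _ hx, cpr_add _ _ _ _ hx, cpr_self _ _ hx] at h2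
    omega
  · have h2 := hbd (hroot.2 h) hy
    rw [two_smul, cpr_add _ _ _ _ hy, cpr_add _ _ _ _ hy, cpr_self _ _ hy] at h2
    omega

/-- `[V_m, V_n] ≤ V_{m+n}` -/
theorem comm_Lv {m n : ℤ} (hm : 0 < m) (hn : 0 < n) {u v : ↥(D.group 𝔽)} (hu : u ∈ US D l 𝔽 (Lv hp lam m))
    (hv : v ∈ US D l 𝔽 (Lv hp lam n)) : ⁅u, v⁆ ∈ US D l 𝔽 (Lv hp lam (m + n)) := by
  refine comm_of_gen (bt_Lv (hp := hp) (lam := lam) (i := m + n) (by omega)).le_norm (US_le_one hm) (US_le_one hn)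
    (fun x hx y hy a ha b hb => ?_) hu hv
  have hx1 := hx.2
  have hy1 := hy.2
  by_cases hxy : x = y
  · subst hxy
    rw [commutatorElement_eq_one_iff_mul_comm.2 (xx_comm hp hx.1 ha hb)]
    exact one_mem _
  · have h4 : x ≠ -y := by
      rintro rfl
      rw [map_neg] at hx1
      omega
    have h5 := Cfsg.Agent.H508.Dens.comm_mem_int hp M.toCoxeterSystem hx.1 hy.1 hxy h4 ha hb
    refine RGD.Sup_mono ?_ h5
    rintro z ⟨hz, s, t, hs, ht, rfl⟩
    refine ⟨hz, ?_⟩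
    rw [map_add, map_zsmul, map_zsmul, smul_eq_mul, smul_eq_mul]
    nlinarith

theorem US_top {m : ℤ} (htop : ∀ b, IsRoot M.toCoxeterSystem hp.isCartan b → lam b ≤ m) {n : ℤ} (hn : m < n)
    {u : ↥(D.group 𝔽)} (hu : u ∈ US D l 𝔽 (Lv hp lam n)) : u = 1 := by
  have h1 : Lv hp lam n = ∅ := by
    rw [Set.eq_empty_iff_forall_notMem]
    rintro x ⟨h1, h2⟩
    have := htop x h1
    omega
  rw [h1, US, Sup_empty] at hu
  exact Subgroup.mem_bot.1 hu

theorem top_central {m : ℤ} (hm : 0 < m) (htop : ∀ b, IsRoot M.toCoxeterSystem hp.isCartan b → lam b ≤ m)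
    {u c : ↥(D.group 𝔽)} (hu : u ∈ US D l 𝔽 (Lv hp lam 1)) (hc : c ∈ US D l 𝔽 (Lv hp lam m)) : u * c = c * u := by
  rw [← commutatorElement_eq_one_iff_mul_comm]
  exact US_top htop (by omega : m < 1 + m) (comm_Lv one_pos hm hu hc)

/-- commutators of root elements -/
theorem comm_one {x y : Fin l → ℤ} (hx : IsRoot M.toCoxeterSystem hp.isCartan x)
    (hy : IsRoot M.toCoxeterSystem hp.isCartan y) (hs : SL M.toCoxeterSystem hp.isCartan) (h0 : 0 < lam x) (h0' : 0 < lam y)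
    (hxy : ¬ IsRoot M.toCoxeterSystem hp.isCartan (x + y)) {a b : ↥(D.group 𝔽)} (ha : a ∈ XX D l 𝔽 x)
    (hb : b ∈ XX D l 𝔽 y) : ⁅a, b⁆ = 1 := by
  have := finite_W hp M.toCoxeterSystem
  by_cases h1 : x = y
  · subst h1
    rw [commutatorElement_eq_one_iff_mul_comm.2 (xx_comm hp hx ha hb)]
  · have h4 : x ≠ -y := by
      rintro rfl
      rw [map_neg] at h0
      omega
    have h5 := Cfsg.Agent.H508.Dens.comm_mem_int hp M.toCoxeterSystem hx hy h1 h4 ha hb
    have h6 : {z | IsRoot M.toCoxeterSystem hp.isCartan z ∧ ∃ i j : ℤ, 0 < i ∧ 0 < j ∧ z = i • x + j • y} = ∅ := by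
      rw [Set.eq_empty_iff_forall_notMem]
      rintro z ⟨hz, m, n, hm, hn, e⟩
      have h7 := (hs.btwn hx hy h1 h4 (Btwn.of_int hz hm hn e)).2
      rw [h7] at hz
      exact hxy hz
    rw [h6, Sup_empty] at h5
    exact Subgroup.mem_bot.1 h5

/-- **The commutator form.** -/
theorem exists_form (hs : SL M.toCoxeterSystem hp.isCartan) (hi : 0 < i) (hj : 0 < j)
    (htop : ∀ b, IsRoot M.toCoxeterSystem hp.isCartan b → lam b ≤ i + j) :
    ∃ B : (Rl hp lam i → 𝔽) →ₗ[𝔽] (Rl hp lam j → 𝔽) →ₗ[𝔽] (Rl hp lam (i + j) → 𝔽),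
      (∀ u ∈ US D l 𝔽 (Lv hp lam i), ∀ v ∈ US D l 𝔽 (Lv hp lam j),
        kap hp lam (i + j) ⁅u, v⁆ = B (kap hp lam i u) (kap hp lam j v)) := by
  classical
  have := finite_W hp M.toCoxeterSystem
  have := finite_Rl (hp := hp) (lam := lam) (i := i)
  have := finite_Rl (hp := hp) (lam := lam) (i := j)
  have := Fintype.ofFinite (Rl hp lam i)
  have := Fintype.ofFinite (Rl hp lam j)
  have hij : 0 < i + j := by omega
  let B : (Rl hp lam i → 𝔽) →ₗ[𝔽] (Rl hp lam j → 𝔽) →ₗ[𝔽] (Rl hp lam (i + j) → 𝔽) :=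
    LinearMap.mk₂ 𝔽 (fun f g b => ∑ x, ∑ y, if x.1 + y.1 = b.1 then (NN D l x.1 y.1 : 𝔽) * (f x * g y) else 0)
      (fun f f' g => by
        funext b
        simp only [Pi.add_apply, ← Finset.sum_add_distrib]
        refine Finset.sum_congr rfl fun x _ => Finset.sum_congr rfl fun y _ => ?_
        split_ifs
        · ring
        · simp)
      (fun c f g => by
        funext b
        simp only [Pi.smul_apply, smul_eq_mul, Finset.mul_sum]
        refine Finset.sum_congr rfl fun x _ => Finset.sum_congr rfl fun y _ => ?_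
        split_ifs
        · ring
        · simp)
      (fun f g g' => by
        funext b
        simp only [Pi.add_apply, ← Finset.sum_add_distrib]
        refine Finset.sum_congr rfl fun x _ => Finset.sum_congr rfl fun y _ => ?_
        split_ifs
        · ring
        · simp)
      (fun c f g => by
        funext b
        simp only [Pi.smul_apply, smul_eq_mul, Finset.mul_sum]
        refine Finset.sum_congr rfl fun x _ => Finset.sum_congr rfl fun y _ => ?_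
        split_ifs
        · ring
        · simp)
  have hB : ∀ (x : Rl hp lam i) (y : Rl hp lam j) (s t : 𝔽) (b : Rl hp lam (i + j)),
      B (Pi.single x s) (Pi.single y t) b = if x.1 + y.1 = b.1 then (NN D l x.1 y.1 : 𝔽) * (s * t) else 0 := by
    intro x y s t b
    show (∑ x', ∑ y', if x'.1 + y'.1 = b.1 then (NN D l x'.1 y'.1 : 𝔽) * ((Pi.single x s : Rl hp lam i → 𝔽) x' *
      (Pi.single y t : Rl hp lam j → 𝔽) y') else 0) = _
    rw [Finset.sum_eq_single x, Finset.sum_eq_single y]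
    · rw [Pi.single_eq_same, Pi.single_eq_same]
    · intro y' _ hy'
      rw [Pi.single_eq_of_ne hy']
      simp
    · intro h; exact absurd (Finset.mem_univ _) h
    · intro x' _ hx'
      rw [Pi.single_eq_of_ne hx']
      simp only [_root_.MulZeroClass.zero_mul, _root_.MulZeroClass.mul_zero, _root_.ite_self, _root_.Finset.sum_const_zero]
    · intro h; exact absurd (Finset.mem_univ _) h
  refine ⟨B, ?_⟩
  have hcomm : ∀ {u v}, u ∈ US D l 𝔽 (Lv hp lam i) → v ∈ US D l 𝔽 (Lv hp lam j) →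
      ⁅u, v⁆ ∈ US D l 𝔽 (Lv hp lam (i + j)) := fun hu hv => comm_Lv hi hj hu hv
  have hcen : ∀ {u c : ↥(D.group 𝔽)}, u ∈ US D l 𝔽 (Lv hp lam 1) → c ∈ US D l 𝔽 (Lv hp lam (i + j)) → u * c * u⁻¹ = c :=
    fun hu hc => by rw [top_central hij htop hu hc, mul_inv_cancel_right]
  -- generators
  have base : ∀ x ∈ Lv hp lam i, ∀ u ∈ XX D l 𝔽 x, ∀ y ∈ Lv hp lam j, ∀ v ∈ XX D l 𝔽 y,
      kap hp lam (i + j) ⁅u, v⁆ = B (kap hp lam i u) (kap hp lam j v) := by
    intro x hx u hu y hy v hv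
    have hu' : u ∈ US D l 𝔽 (Lv hp lam i) := RGD.le_Sup hx hu
    have hv' : v ∈ US D l 𝔽 (Lv hp lam j) := RGD.le_Sup hy hv
    by_cases h1 : lam x = i
    · by_cases h2 : lam y = j
      · obtain ⟨s, rfl⟩ := ((coord hp hx.1).mem _).1 hu
        obtain ⟨t, rfl⟩ := ((coord hp hy.1).mem _).1 hv
        rw [kap_xc hs hi ⟨x, hx.1, h1⟩ s, kap_xc hs hj ⟨y, hy.1, h2⟩ t]
        by_cases h3 : IsRoot M.toCoxeterSystem hp.isCartan (x + y)
        · have h4 : lam (x + y) = i + j := by rw [map_add, h1, h2]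
          rw [xc_br hp (pr_of hp hs hx.1 hy.1 h3), kap_xc hs hij ⟨x + y, h3, h4⟩]
          funext b
          rw [hB]
          by_cases h5 : b = ⟨x + y, h3, h4⟩
          · subst h5
            rw [Pi.single_eq_same, if_pos rfl]
          · rw [Pi.single_eq_of_ne h5, if_neg]
            intro h6
            exact h5 (Subtype.ext h6.symm)
        · rw [comm_one (hp := hp) (lam := lam) hx.1 hy.1 hs (by omega) (by omega) h3 hu hv, kap_one hs hij]
          funext b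
          rw [hB, if_neg]
          · rfl
          · intro h6
            rw [h6] at h3
            exact h3 b.2.1
      · have h3 : v ∈ US D l 𝔽 (Lv hp lam (j + 1)) := RGD.le_Sup (S := Lv hp lam (j + 1)) ⟨hy.1, by
          have := hy.2
          omega⟩ hv
        rw [kap_of_gt hs hj h3, map_zero, US_top htop (by omega : i + j < i + (j + 1)) (comm_Lv hi (by omega) hu' h3),
          kap_one hs hij]
    · have h3 : u ∈ US D l 𝔽 (Lv hp lam (i + 1)) := RGD.le_Sup (S := Lv hp lam (i + 1)) ⟨hx.1, by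
        have := hx.2
        omega⟩ hu
      rw [kap_of_gt hs hi h3, map_zero, LinearMap.zero_apply,
        US_top htop (by omega : i + j < (i + 1) + j) (comm_Lv (by omega) hj h3 hv'), kap_one hs hij]
  have step : ∀ x ∈ Lv hp lam i, ∀ u ∈ XX D l 𝔽 x, ∀ v ∈ US D l 𝔽 (Lv hp lam j),
      kap hp lam (i + j) ⁅u, v⁆ = B (kap hp lam i u) (kap hp lam j v) := by
    intro x hx u hu v hv
    have hu' : u ∈ US D l 𝔽 (Lv hp lam i) := RGD.le_Sup hx hu
    refine (sup_induction (P := fun v => v ∈ US D l 𝔽 (Lv hp lam j) ∧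
      kap hp lam (i + j) ⁅u, v⁆ = B (kap hp lam i u) (kap hp lam j v)) hv ?_ ?_ ?_).2
    · exact fun y hy v hv => ⟨RGD.le_Sup hy hv, base x hx u hu y hy v hv⟩
    · exact ⟨one_mem _, by rw [commutatorElement_one_right, kap_one hs hij, kap_one hs hj, map_zero]⟩
    · rintro v v' ⟨h1, h2⟩ ⟨h3, h4⟩
      refine ⟨mul_mem h1 h3, ?_⟩
      have e : ⁅u, v * v'⁆ = ⁅u, v⁆ * (v * ⁅u, v'⁆ * v⁻¹) := by simp only [commutatorElement_def]; group
      rw [e, hcen (US_le_one hj h1) (hcomm hu' h3), kap_mul hs hij (hcomm hu' h1) (hcomm hu' h3), h2, h4,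
        kap_mul hs hj h1 h3, map_add]
  intro u hu v hv
  refine (sup_induction (P := fun u => u ∈ US D l 𝔽 (Lv hp lam i) ∧
    kap hp lam (i + j) ⁅u, v⁆ = B (kap hp lam i u) (kap hp lam j v)) hu ?_ ?_ ?_).2
  · exact fun x hx u hu => ⟨RGD.le_Sup hx hu, step x hx u hu v hv⟩
  · exact ⟨one_mem _, by rw [commutatorElement_one_left, kap_one hs hij, kap_one hs hi, map_zero, LinearMap.zero_apply]⟩
  · rintro u u' ⟨h1, h2⟩ ⟨h3, h4⟩
    refine ⟨mul_mem h1 h3, ?_⟩
    have e : ⁅u * u', v⁆ = (u * ⁅u', v⁆ * u⁻¹) * ⁅u, v⁆ := by simp only [commutatorElement_def]; group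
    rw [e, hcen (US_le_one hi h1) (hcomm h3 hv), kap_mul hs hij (hcomm h3 hv) (hcomm h1 hv), h2, h4,
      kap_mul hs hi h1 h3, map_add, LinearMap.add_apply]
    exact add_comm _ _

/-- the span of the values of the commutator form -/
theorem mem_span_form (hs : SL M.toCoxeterSystem hp.isCartan) (hi : 0 < i) (hj : 0 < j)
    (hdec : ∀ b, IsRoot M.toCoxeterSystem hp.isCartan b → lam b = i + j →
      ∃ x y, IsRoot M.toCoxeterSystem hp.isCartan x ∧ IsRoot M.toCoxeterSystem hp.isCartan y ∧ lam x = i ∧ lam y = j ∧ x + y = b)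
    {B : (Rl hp lam i → 𝔽) →ₗ[𝔽] (Rl hp lam j → 𝔽) →ₗ[𝔽] (Rl hp lam (i + j) → 𝔽)}
    (hB : ∀ u ∈ US D l 𝔽 (Lv hp lam i), ∀ v ∈ US D l 𝔽 (Lv hp lam j),
        kap hp lam (i + j) ⁅u, v⁆ = B (kap hp lam i u) (kap hp lam j v)) (z : Rl hp lam (i + j) → 𝔽) :
    z ∈ Submodule.span 𝔽 {x | ∃ v w, B v w = x} := by
  classical
  have := finite_Rl (hp := hp) (lam := lam) (i := i + j)
  have := Fintype.ofFinite (Rl hp lam (i + j))
  have hij : 0 < i + j := by omega
  rw [← Finset.univ_sum_single z]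
  refine Submodule.sum_mem _ fun b _ => Submodule.subset_span ?_
  obtain ⟨x, y, hx, hy, h1, h2, e⟩ := hdec b.1 b.2.1 b.2.2
  have hroot : IsRoot M.toCoxeterSystem hp.isCartan (x + y) := by rw [e]; exact b.2.1
  have hpr := pr_of hp hs hx hy hroot
  have hN : (NN D l x y : 𝔽) ≠ 0 := by
    rcases (Cfsg.Agent.H46.Gen.entry_pair hp hpr).1 with h | h <;> rw [h] <;> simp
  refine ⟨kap hp lam i (xc hp x ((NN D l x y : 𝔽)⁻¹ * z b)), kap hp lam j (xc hp y 1), ?_⟩
  rw [← hB _ (RGD.le_Sup (S := Lv hp lam i) ⟨hx, h1.ge⟩ (xc_mem hp hx _)) _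
    (RGD.le_Sup (S := Lv hp lam j) ⟨hy, h2.ge⟩ (xc_mem hp hy _)), xc_br hp hpr, mul_one, mul_inv_cancel_left₀ hN, e]
  exact kap_xc hs hij b (z b)

end Cfsg.Agent.H24.MX
end

-- part: H24/MX/Form
section
/-!
# Forms of semilinear maps (S3509, MIX, helper24)

`φ : k →+* k` with periodic elements and elements of every exact period, `α : V →ₛₗ[φ] V` with periodic vectors.

* `span_fix` : the fixed vectors span `V`;
* `mem_of_span` : a fixed vector in the `k`-span of fixed vectors is an `F_q`-combination of them;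
* `form` : `B : V → W → Z` bilinear and equivariant: every fixed `z` in the span of the values is a sum of values at fixed
  vectors;
* `form_closure` : the case `k` algebraic closure of `ZMod p`, `φ c = c ^ q`.
-/

set_option autoImplicit false

namespace Cfsg.Agent.H24.MX

open Function

section sem

variable {k : Type*} [Field k] (φ : k →+* k)

/-- elements of every exact period -/
def Ex : Prop := ∀ N : ℕ, 0 < N → ∃ ζ : k, φ^[N] ζ = ζ ∧ ∀ i, 0 < i → i < N → φ^[i] ζ ≠ ζ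

/-- all elements are periodic -/
def Pe : Prop := ∀ c : k, ∃ N : ℕ, 0 < N ∧ φ^[N] c = c

variable {φ}

theorem iter_map_mul (i : ℕ) (a b : k) : φ^[i] (a * b) = φ^[i] a * φ^[i] b := by
  induction i with
  | zero => rfl
  | succ n ih => rw [iterate_succ_apply', iterate_succ_apply', iterate_succ_apply', ih, map_mul]

theorem iter_map_pow (i : ℕ) (a : k) (j : ℕ) : φ^[i] (a ^ j) = (φ^[i] a) ^ j := by
  induction i with
  | zero => rfl
  | succ n ih => rw [iterate_succ_apply', iterate_succ_apply', ih, map_pow]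

theorem period_mul {N : ℕ} {c : k} (h : φ^[N] c = c) (m : ℕ) : φ^[N * m] c = c := by
  rw [iterate_mul]
  exact iterate_fixed h m

/-- Lagrange coefficients -/
theorem exists_coeff {N : ℕ} (hN : 0 < N) {ζ : k} (h1 : φ^[N] ζ = ζ) (h2 : ∀ i, 0 < i → i < N → φ^[i] ζ ≠ ζ) :
    ∃ d : ℕ → k, ∃ n : ℕ, ∀ i < N, ∑ j ∈ Finset.range n, d j * (φ^[i] ζ) ^ j = if i = 0 then 1 else 0 := by
  classical
  let P : Polynomial k := Polynomial.C (∏ i ∈ (Finset.range N).erase 0, (ζ - φ^[i] ζ))⁻¹ *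
    ∏ i ∈ (Finset.range N).erase 0, (Polynomial.X - Polynomial.C (φ^[i] ζ))
  have hne : (∏ i ∈ (Finset.range N).erase 0, (ζ - φ^[i] ζ)) ≠ 0 := by
    rw [Finset.prod_ne_zero_iff]
    intro i hi
    rw [Finset.mem_erase, Finset.mem_range] at hi
    exact sub_ne_zero.2 (h2 i (Nat.pos_of_ne_zero hi.1) hi.2).symm
  refine ⟨P.coeff, P.natDegree + 1, fun i hi => ?_⟩
  rw [← Polynomial.eval_eq_sum_range]
  simp only [P, Polynomial.eval_mul, Polynomial.eval_C, Polynomial.eval_prod, Polynomial.eval_sub, Polynomial.eval_X]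
  by_cases h0 : i = 0
  · subst h0
    rw [if_pos rfl]
    exact inv_mul_cancel₀ hne
  · have h3 : ∏ j ∈ (Finset.range N).erase 0, (φ^[i] ζ - φ^[j] ζ) = 0 :=
      Finset.prod_eq_zero (i := i) (Finset.mem_erase.2 ⟨h0, Finset.mem_range.2 hi⟩) (sub_self _)
    rw [if_neg h0, h3, mul_zero]

section V

variable {V : Type*} [AddCommGroup V] [Module k V] (α : V →ₛₗ[φ] V)

theorem iter_add (i : ℕ) (a b : V) : α^[i] (a + b) = α^[i] a + α^[i] b := by
  induction i with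
  | zero => rfl
  | succ n ih => rw [iterate_succ_apply', iterate_succ_apply', iterate_succ_apply', ih, map_add]

theorem iter_smul (i : ℕ) (c : k) (v : V) : α^[i] (c • v) = φ^[i] c • α^[i] v := by
  induction i with
  | zero => rfl
  | succ n ih => rw [iterate_succ_apply', iterate_succ_apply', iterate_succ_apply', ih, LinearMap.map_smulₛₗ]

/-- the trace `∑ φ^i(c) α^i(v)` -/
def tr (N : ℕ) (c : k) (v : V) : V := ∑ i ∈ Finset.range N, φ^[i] c • α^[i] v

theorem tr_fix {N : ℕ} {c : k} {v : V} (hc : φ^[N] c = c) (hv : α^[N] v = v) : α (tr α N c v) = tr α N c v := by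
  rw [tr, map_sum]
  have h1 : ∀ i ∈ Finset.range N, α (φ^[i] c • α^[i] v) = φ^[i + 1] c • α^[i + 1] v := by
    intro i _
    rw [LinearMap.map_smulₛₗ, iterate_succ_apply', iterate_succ_apply']
  rw [Finset.sum_congr rfl h1]
  have h2 := Finset.sum_range_succ' (fun i => φ^[i] c • α^[i] v) N
  have h3 := Finset.sum_range_succ (fun i => φ^[i] c • α^[i] v) N
  rw [h2] at h3
  simp only [iterate_zero, id_eq, hc, hv] at h3
  exact add_right_cancel h3

/-- every periodic vector is a combination of its traces -/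
theorem mem_span_fix (hE : Ex φ) {v : V} {N : ℕ} (hN : 0 < N) (hv : α^[N] v = v) :
    v ∈ Submodule.span k {w : V | α w = w} := by
  obtain ⟨ζ, h1, h2⟩ := hE N hN
  obtain ⟨d, n, hd⟩ := exists_coeff hN h1 h2
  have hs : v = ∑ j ∈ Finset.range n, d j • tr α N (ζ ^ j) v := by
    simp only [tr, Finset.smul_sum]
    rw [Finset.sum_comm]
    have h3 : ∀ i ∈ Finset.range N, ∑ j ∈ Finset.range n, d j • (φ^[i] (ζ ^ j) • α^[i] v) =
        (if i = 0 then (1 : k) else 0) • α^[i] v := by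
      intro i hi
      rw [← hd i (Finset.mem_range.1 hi), Finset.sum_smul]
      refine Finset.sum_congr rfl fun j _ => ?_
      rw [iter_map_pow, smul_smul]
    rw [Finset.sum_congr rfl h3]
    rw [Finset.sum_eq_single_of_mem 0 (Finset.mem_range.2 hN)]
    · rw [if_pos rfl, one_smul, iterate_zero, id_eq]
    · intro i _ hi
      rw [if_neg hi, zero_smul]
  rw [hs]
  refine Submodule.sum_mem _ fun j _ => Submodule.smul_mem _ _ (Submodule.subset_span ?_)
  exact tr_fix α (by rw [iter_map_pow, h1]) hv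

/-- **The fixed vectors span.** -/
theorem span_fix (hE : Ex φ) (hper : ∀ v : V, ∃ N : ℕ, 0 < N ∧ α^[N] v = v) :
    Submodule.span k {w : V | α w = w} = ⊤ := by
  rw [eq_top_iff]
  intro v _
  obtain ⟨N, hN, hv⟩ := hper v
  exact mem_span_fix α hE hN hv

/-- trace of scalars -/
theorem exists_tr_one (hE : Ex φ) {N : ℕ} (hN : 0 < N) :
    ∃ e : k, φ^[N] e = e ∧ ∑ i ∈ Finset.range N, φ^[i] e = 1 := by
  obtain ⟨ζ, h1, h2⟩ := hE N hN
  obtain ⟨d, n, hd⟩ := exists_coeff hN h1 h2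
  let T : k → k := fun c => ∑ i ∈ Finset.range N, φ^[i] c
  have hTfix : ∀ c, φ^[N] c = c → φ (T c) = T c := by
    intro c hc
    simp only [T, map_sum]
    have h1 : ∀ i ∈ Finset.range N, φ (φ^[i] c) = φ^[i + 1] c := fun i _ => by rw [iterate_succ_apply']
    rw [Finset.sum_congr rfl h1]
    have h2 := Finset.sum_range_succ' (fun i => φ^[i] c) N
    have h3 := Finset.sum_range_succ (fun i => φ^[i] c) N
    rw [h2] at h3
    simp only [iterate_zero, id_eq, hc] at h3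
    exact add_right_cancel h3
  have hs : ∑ j ∈ Finset.range n, d j * T (ζ ^ j) = 1 := by
    simp only [T, Finset.mul_sum]
    rw [Finset.sum_comm]
    have h3 : ∀ i ∈ Finset.range N, ∑ j ∈ Finset.range n, d j * φ^[i] (ζ ^ j) = if i = 0 then (1 : k) else 0 := by
      intro i hi
      rw [← hd i (Finset.mem_range.1 hi)]
      refine Finset.sum_congr rfl fun j _ => ?_
      rw [iter_map_pow]
    rw [Finset.sum_congr rfl h3, Finset.sum_ite_eq' (Finset.range N) 0 (fun _ => (1 : k)), if_pos (Finset.mem_range.2 hN)]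
  obtain ⟨j, -, hj⟩ : ∃ j ∈ Finset.range n, T (ζ ^ j) ≠ 0 := by
    by_contra hcon
    push Not at hcon
    rw [Finset.sum_eq_zero (fun j hj => by rw [hcon j hj, mul_zero])] at hs
    exact zero_ne_one hs
  have hz : φ^[N] (ζ ^ j) = ζ ^ j := by rw [iter_map_pow, h1]
  have hτ := hTfix _ hz
  have hτi : φ (T (ζ ^ j))⁻¹ = (T (ζ ^ j))⁻¹ := by rw [map_inv₀, hτ]
  have hτn : ∀ i, φ^[i] (T (ζ ^ j))⁻¹ = (T (ζ ^ j))⁻¹ := fun i => iterate_fixed hτi i
  refine ⟨ζ ^ j * (T (ζ ^ j))⁻¹, ?_, ?_⟩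
  · rw [iter_map_mul, hz, hτn]
  · have h4 : ∀ i ∈ Finset.range N, φ^[i] (ζ ^ j * (T (ζ ^ j))⁻¹) = φ^[i] (ζ ^ j) * (T (ζ ^ j))⁻¹ := by
      intro i _
      rw [iter_map_mul, hτn]
    rw [Finset.sum_congr rfl h4, ← Finset.sum_mul]
    exact mul_inv_cancel₀ hj

/-- a common period of finitely many scalars -/
theorem exists_period (hP : Pe φ) {ι : Type*} (s : Finset ι) (c : ι → k) :
    ∃ N : ℕ, 0 < N ∧ ∀ i ∈ s, φ^[N] (c i) = c i := by
  classical
  induction s using Finset.induction_on with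
  | empty => exact ⟨1, one_pos, by simp⟩
  | insert a s _ ih =>
    obtain ⟨N, hN, h⟩ := ih
    obtain ⟨M, hM, h'⟩ := hP (c a)
    refine ⟨N * M, Nat.mul_pos hN hM, fun i hi => ?_⟩
    rw [Finset.mem_insert] at hi
    rcases hi with rfl | hi
    · rw [mul_comm]; exact period_mul h' N
    · exact period_mul (h i hi) M

/-- **A fixed vector in the span of `W₀`** (fixed vectors, closed under `F_q`) **is in `W₀`.** -/
theorem mem_of_span (hE : Ex φ) (hP : Pe φ) {W₀ : AddSubgroup V} (h1 : ∀ w ∈ W₀, α w = w)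
    (h2 : ∀ c : k, φ c = c → ∀ w ∈ W₀, c • w ∈ W₀) {z : V} (hz : α z = z)
    (hs : z ∈ Submodule.span k (W₀ : Set V)) : z ∈ W₀ := by
  classical
  obtain ⟨n, c, w, hcw⟩ := Submodule.mem_span_set'.1 hs
  obtain ⟨N, hN, hc⟩ := exists_period hP Finset.univ c
  obtain ⟨e, he, he1⟩ := exists_tr_one hE hN
  have hzi : ∀ i, α^[i] z = z := fun i => iterate_fixed hz i
  have hwi : ∀ i j, α^[i] (w j : V) = w j := fun i j => iterate_fixed (h1 _ (w j).2) i
  have hsum : ∀ (i : ℕ) (s : Finset (Fin n)) (f : Fin n → V), α^[i] (∑ j ∈ s, f j) = ∑ j ∈ s, α^[i] (f j) := by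
    intro i s f
    induction s using Finset.induction_on with
    | empty =>
      simp only [Finset.sum_empty]
      exact iterate_fixed (map_zero α) i
    | insert a s ha ih => rw [Finset.sum_insert ha, Finset.sum_insert ha, iter_add, ih]
  have h3 : ∀ i, z = ∑ j, φ^[i] (c j) • (w j : V) := by
    intro i
    rw [← hzi i]
    conv_lhs => rw [← hcw]
    rw [hsum]
    refine Finset.sum_congr rfl fun j _ => ?_
    rw [iter_smul, hwi]
  let T : k → k := fun c => ∑ i ∈ Finset.range N, φ^[i] c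
  have hTfix : ∀ c, φ^[N] c = c → φ (T c) = T c := by
    intro c hc
    simp only [T, map_sum]
    have h1 : ∀ i ∈ Finset.range N, φ (φ^[i] c) = φ^[i + 1] c := fun i _ => by rw [iterate_succ_apply']
    rw [Finset.sum_congr rfl h1]
    have h2 := Finset.sum_range_succ' (fun i => φ^[i] c) N
    have h3 := Finset.sum_range_succ (fun i => φ^[i] c) N
    rw [h2] at h3
    simp only [iterate_zero, id_eq, hc] at h3
    exact add_right_cancel h3
  have h4 : z = ∑ j, T (e * c j) • (w j : V) := by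
    have h5 : z = ∑ i ∈ Finset.range N, φ^[i] e • z := by rw [← Finset.sum_smul, he1, one_smul]
    rw [h5]
    have h6 : ∀ i ∈ Finset.range N, φ^[i] e • z = ∑ j, φ^[i] (e * c j) • (w j : V) := by
      intro i _
      conv_lhs => rw [h3 i]
      rw [Finset.smul_sum]
      refine Finset.sum_congr rfl fun j _ => ?_
      rw [smul_smul, iter_map_mul]
    rw [Finset.sum_congr rfl h6, Finset.sum_comm]
    refine Finset.sum_congr rfl fun j _ => ?_
    rw [Finset.sum_smul]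
  rw [h4]
  refine AddSubgroup.sum_mem _ fun j _ => h2 _ (hTfix _ ?_) _ (w j).2
  rw [iter_map_mul, he, hc j (Finset.mem_univ j)]

end V

/-- **FORM lemma.** -/
theorem form {V W Z : Type*} [AddCommGroup V] [Module k V] [AddCommGroup W] [Module k W] [AddCommGroup Z] [Module k Z]
    (hE : Ex φ) (hP : Pe φ) (α : V →ₛₗ[φ] V) (β : W →ₛₗ[φ] W) (γ : Z →ₛₗ[φ] Z)
    (hα : ∀ v : V, ∃ N : ℕ, 0 < N ∧ α^[N] v = v) (hβ : ∀ v : W, ∃ N : ℕ, 0 < N ∧ β^[N] v = v)
    (B : V →ₗ[k] W →ₗ[k] Z) (hB : ∀ v w, γ (B v w) = B (α v) (β w)) {z : Z} (hz : γ z = z)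
    (hs : z ∈ Submodule.span k {x | ∃ v w, B v w = x}) :
    z ∈ AddSubgroup.closure {x | ∃ v w, α v = v ∧ β w = w ∧ B v w = x} := by
  refine mem_of_span γ hE hP ?_ ?_ hz ?_
  · intro w hw
    induction hw using AddSubgroup.closure_induction with
    | mem x hx =>
      obtain ⟨v, w, hv, hw, rfl⟩ := hx
      rw [hB, hv, hw]
    | zero => exact map_zero γ
    | add x y _ _ hx hy => rw [map_add, hx, hy]
    | neg x _ hx => rw [map_neg, hx]
  · intro c hc w hw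
    induction hw using AddSubgroup.closure_induction with
    | mem x hx =>
      obtain ⟨v, w, hv, hw, rfl⟩ := hx
      refine AddSubgroup.subset_closure ⟨c • v, w, ?_, hw, ?_⟩
      · rw [LinearMap.map_smulₛₗ, hc, hv]
      · rw [map_smul, LinearMap.smul_apply]
    | zero => rw [smul_zero]; exact AddSubgroup.zero_mem _
    | add x y _ _ hx hy => rw [smul_add]; exact AddSubgroup.add_mem _ hx hy
    | neg x _ hx => rw [smul_neg]; exact AddSubgroup.neg_mem _ hx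
  · have hle : Submodule.span k {x | ∃ v w, B v w = x} ≤ Submodule.span k
        ((AddSubgroup.closure {x | ∃ v w, α v = v ∧ β w = w ∧ B v w = x} : AddSubgroup Z) : Set Z) := by
      rw [Submodule.span_le]
      rintro _ ⟨v, w, rfl⟩
      have hv : v ∈ Submodule.span k {v : V | α v = v} := by rw [span_fix α hE hα]; trivial
      have hw : w ∈ Submodule.span k {v : W | β v = v} := by rw [span_fix β hE hβ]; trivial
      induction hv using Submodule.span_induction with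
      | mem v hv =>
        induction hw using Submodule.span_induction with
        | mem w hw => exact Submodule.subset_span (AddSubgroup.subset_closure ⟨v, w, hv, hw, rfl⟩)
        | zero => rw [map_zero]; exact Submodule.zero_mem _
        | add x y _ _ hx hy => rw [map_add]; exact Submodule.add_mem _ hx hy
        | smul c x _ hx => rw [map_smul]; exact Submodule.smul_mem _ _ hx
      | zero => rw [map_zero, LinearMap.zero_apply]; exact Submodule.zero_mem _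
      | add x y _ _ hx hy => rw [map_add, LinearMap.add_apply]; exact Submodule.add_mem _ hx hy
      | smul c x _ hx => rw [map_smul, LinearMap.smul_apply]; exact Submodule.smul_mem _ _ hx
    exact hle hs

end sem

section closure

variable {k : Type*} [Field k] {p : ℕ} [Fact p.Prime] [CharP k p]

/-- the `q`-power map -/
noncomputable def fr (k : Type*) [Field k] (p : ℕ) [Fact p.Prime] [CharP k p] (f : ℕ) : k →+* k :=
  iterateFrobenius k p f

theorem fr_apply (f : ℕ) (c : k) : fr k p f c = c ^ p ^ f := iterateFrobenius_def p f c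

theorem fr_iter (f i : ℕ) (c : k) : (fr k p f)^[i] c = c ^ (p ^ f) ^ i := by
  induction i with
  | zero => simp
  | succ n ih => rw [iterate_succ_apply', ih, fr_apply, ← pow_mul, ← pow_succ]

theorem ex_fr [IsAlgClosed k] {f : ℕ} (hf : 0 < f) : Ex (fr k p f) := by
  intro N hN
  have hp := (Fact.out : p.Prime)
  set q := p ^ f with hq
  have hq2 : 2 ≤ q := hp.two_le.trans (Nat.le_self_pow hf.ne' p)
  have hqN : 2 ≤ q ^ N := hq2.trans (Nat.le_self_pow hN.ne' q)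
  have hcop : ¬ p ∣ q ^ N - 1 := by
    intro h
    have h1 : p ∣ q ^ N := by
      rw [hq, ← pow_mul]
      exact dvd_pow_self p (Nat.mul_pos hf hN).ne'
    have h2 : p ∣ q ^ N - (q ^ N - 1) := Nat.dvd_sub h1 h
    rw [Nat.sub_sub_self (by omega)] at h2
    exact hp.one_lt.ne' (Nat.dvd_one.1 h2)
  have hne : NeZero ((q ^ N - 1 : ℕ) : k) := ⟨fun h => hcop ((CharP.cast_eq_zero_iff k p _).1 h)⟩
  have hne' : NeZero (q ^ N - 1) := ⟨by omega⟩
  obtain ⟨ζ, hζ⟩ := HasEnoughRootsOfUnity.exists_primitiveRoot k (q ^ N - 1)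
  have hζ0 : ζ ≠ 0 := hζ.ne_zero (by omega)
  refine ⟨ζ, ?_, fun i hi hiN h => ?_⟩
  · rw [fr_iter, ← hq]
    have : ζ ^ q ^ N = ζ ^ (q ^ N - 1) * ζ := by rw [← pow_succ]; congr 1; omega
    rw [this, hζ.pow_eq_one, one_mul]
  · rw [fr_iter, ← hq] at h
    have h1 : ζ ^ (q ^ i - 1) = 1 := by
      have h2 : ζ ^ q ^ i = ζ ^ (q ^ i - 1) * ζ := by
        rw [← pow_succ]; congr 1
        have : 0 < q ^ i := by positivity
        omega
      rw [h2] at h
      exact mul_right_cancel₀ hζ0 (h.trans (one_mul ζ).symm)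
    have h3 := hζ.dvd_of_pow_eq_one _ h1
    have h4 : q ^ i < q ^ N := Nat.pow_lt_pow_right (by omega) hiN
    have h5 : 2 ≤ q ^ i := hq2.trans (Nat.le_self_pow hi.ne' q)
    have h6 := Nat.le_of_dvd (by omega) h3
    omega

theorem pe_fr [Algebra (ZMod p) k] [Algebra.IsAlgebraic (ZMod p) k] (f : ℕ) : Pe (fr k p f) := by
  intro c
  have hint : IsIntegral (ZMod p) c := Algebra.IsIntegral.isIntegral c
  have hfin : FiniteDimensional (ZMod p) (IntermediateField.adjoin (ZMod p) ({c} : Set k)) :=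
    IntermediateField.adjoin.finiteDimensional hint
  have hfin' : Finite (IntermediateField.adjoin (ZMod p) ({c} : Set k)) := Module.finite_of_finite (ZMod p)
  have := Fintype.ofFinite (IntermediateField.adjoin (ZMod p) ({c} : Set k))
  obtain ⟨n, hn⟩ := FiniteField.card (IntermediateField.adjoin (ZMod p) ({c} : Set k)) p
  have hc : (⟨c, IntermediateField.mem_adjoin_simple_self _ c⟩ : IntermediateField.adjoin (ZMod p) ({c} : Set k)) ^
      p ^ (n : ℕ) = ⟨c, IntermediateField.mem_adjoin_simple_self _ c⟩ := by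
    rw [← hn.2]
    exact FiniteField.pow_card _
  have hc' : c ^ p ^ (n : ℕ) = c := by
    have := congrArg Subtype.val hc
    simpa using this
  refine ⟨n, n.pos, ?_⟩
  rw [fr_iter, ← pow_mul, mul_comm f, pow_mul]
  have : ∀ m : ℕ, c ^ (p ^ (n : ℕ)) ^ m = c := by
    intro m
    induction m with
    | zero => simp
    | succ m ih => rw [pow_succ, pow_mul, ih, hc']
  exact this f

end closure

end Cfsg.Agent.H24.MX
end

-- part: H24/MX/Desc
section
/-!
# S3509 MIX, box M4t: descent (helper24)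

`α` a frame automorphism of Frobenius type, `lam` invariant:

* `exists_sem` : `kap i (α u) = γ (kap i u)`, `γ` semilinear, with periodic vectors;
* `exists_lift` : the fixed vectors of `γ` are the `kap i u`, `α u = u` (Lang);
* `mem_of_comm` : the fixed points in the top layer `i + j` lie in every subgroup containing the `⁅u, v⁆`, `u`, `v` fixed of
  level `i`, `j`.
-/

set_option autoImplicit false
set_option linter.unusedSectionVars false

namespace Cfsg.Agent.H24.MX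

open CoxeterSystem Cfsg Cfsg.Lie Cfsg.Lie.ChevalleyDatum
open Cfsg.Agent.ChevalleyStructure Cfsg.Agent.ChevalleyStructure.Elts Cfsg.Agent.ChevalleyStructure.CoxeterGeom
  Cfsg.Agent.ChevalleyStructure.CoxeterGeomTypes Cfsg.Agent.ChevalleyStructure.NPerm
open Cfsg.Agent.Tits.Roots Cfsg.Agent.Tits.Core Cfsg.Agent.Nodes.Reps Cfsg.Agent.Nodes.BNOf
  Cfsg.Agent.Nodes.RGDChev Cfsg.Agent.Nodes.Coroot Cfsg.Agent.Nodes.Unique Cfsg.Agent.Nodes.OppDec
open Cfsg.Agent.KFacts.RgdField Cfsg.Agent.KFacts.RgdChevCoord Cfsg.Agent.KFacts.RgdSL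
open Cfsg.Agent.BpExc.Tow Cfsg.Agent.BpExc.TowChev Cfsg.Agent.BpExc.Fr Cfsg.Agent.BpExc.LangFr Cfsg.Agent.LangThm
open scoped commutatorElement
open Function

section per

variable {k : Type*} [Field k] {φ : k →+* k}

/-- monomial semilinear maps have periodic vectors -/
theorem periodic_pi (hP : Pe φ) (hfin : ∀ N, 0 < N → {c : k | φ^[N] c = c}.Finite) {ι : Type*} [Finite ι]
    (π : Equiv.Perm ι) {w : ι → k} (hw : ∀ b, w b ≠ 0) {γ : (ι → k) → (ι → k)}
    (hγ : ∀ f b, γ f (π b) = w b * φ (f b)) (f : ι → k) : ∃ N : ℕ, 0 < N ∧ γ^[N] f = f := by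
  classical
  have := Fintype.ofFinite ι
  obtain ⟨N1, hN1, h1⟩ := exists_period hP Finset.univ f
  obtain ⟨N2, hN2, h2⟩ := exists_period hP Finset.univ w
  set N := N1 * N2 with hN
  have hN0 : 0 < N := Nat.mul_pos hN1 hN2
  have h3 : ∀ b, φ^[N] (f b) = f b := fun b => period_mul (h1 b (Finset.mem_univ b)) N2
  have h4 : ∀ b, φ^[N] (w b) = w b := fun b => by
    rw [hN, mul_comm]
    exact period_mul (h2 b (Finset.mem_univ b)) N1
  let S : Set (ι → k) := {g | ∀ b, φ^[N] (g b) = g b}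
  have hS : S.Finite := Set.Finite.pi' fun _ => hfin N hN0
  have hmap : ∀ g ∈ S, γ g ∈ S := by
    intro g hg b
    obtain ⟨b, rfl⟩ := π.surjective b
    rw [hγ, iter_map_mul, h4, ← iterate_succ_apply, iterate_succ_apply', hg b]
  have hinj : Injective γ := by
    intro g g' h
    funext b
    have h5 := congrFun h (π b)
    rw [hγ, hγ] at h5
    exact φ.injective (mul_left_cancel₀ (hw b) h5)
  have := hS.to_subtype
  let γ' : S → S := fun g => ⟨γ g, hmap g g.2⟩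
  have hinj' : Injective γ' := fun g g' h => Subtype.ext (hinj (congrArg Subtype.val h))
  obtain ⟨n, hn, h6⟩ := hinj'.mem_periodicPts ⟨f, h3⟩
  refine ⟨n, hn, ?_⟩
  have h7 : ∀ m : ℕ, ∀ g : S, ((γ'^[m] g : S) : ι → k) = γ^[m] g := by
    intro m
    induction m with
    | zero => intro g; rfl
    | succ m ih => intro g; rw [iterate_succ_apply, iterate_succ_apply, ih]
  have h8 : γ'^[n] ⟨f, h3⟩ = ⟨f, h3⟩ := h6
  rw [← h7 n ⟨f, h3⟩, h8]

theorem finite_fr {p : ℕ} [Fact p.Prime] [CharP k p] {f : ℕ} (hf : 0 < f) (N : ℕ) (hN : 0 < N) :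
    {c : k | (fr k p f)^[N] c = c}.Finite := by
  classical
  have h2 : 2 ≤ (p ^ f) ^ N :=
    ((Fact.out : p.Prime).two_le.trans (Nat.le_self_pow hf.ne' p)).trans (Nat.le_self_pow hN.ne' _)
  have hne : (Polynomial.X ^ ((p ^ f) ^ N) - Polynomial.X : Polynomial k) ≠ 0 := by
    intro h
    have h3 := congrArg Polynomial.natDegree h
    rw [Polynomial.natDegree_sub_eq_left_of_natDegree_lt (by
      rw [Polynomial.natDegree_X, Polynomial.natDegree_X_pow]; omega), Polynomial.natDegree_X_pow,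
      Polynomial.natDegree_zero] at h3
    omega
  refine (Polynomial.rootSet_finite (Polynomial.X ^ ((p ^ f) ^ N) - Polynomial.X : Polynomial k) k).subset ?_
  intro c hc
  rw [Polynomial.mem_rootSet]
  refine ⟨hne, ?_⟩
  have hc' : (fr k p f)^[N] c = c := hc
  rw [fr_iter] at hc'
  rw [map_sub, map_pow, Polynomial.aeval_X, hc', sub_self]

end per

variable {D : ChevalleyDatum} {l : ℕ} {M : CoxeterMatrix (Fin l)} {hp : IsType D l M}
  {lam : (Fin l → ℤ) →+ ℤ} {i j : ℤ} {r e : ℕ} [Fact r.Prime]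

local notation "𝔽" => AlgebraicClosure (ZMod r)

section


/-- **The semilinear map of a layer.** -/
theorem exists_sem (hs : SL M.toCoxeterSystem hp.isCartan) (he : 0 < e) {α : MulAut ↥(D.group 𝔽)}
    {θ : (Fin l → ℤ) ≃+ (Fin l → ℤ)} (hα : IsFrob r e α)
    (F : Fr M.toCoxeterSystem hp.isCartan (TT D 𝔽) (XX D l 𝔽) α θ) (hlam : ∀ x, lam (θ x) = lam x)
    (hi : 0 < i) : ∃ γ : (Rl hp lam i → 𝔽) →ₛₗ[fr 𝔽 r e] (Rl hp lam i → 𝔽),
    (∀ u ∈ US D l 𝔽 (Lv hp lam i), kap hp lam i (α u) = γ (kap hp lam i u)) ∧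
      ∀ v, ∃ N : ℕ, 0 < N ∧ γ^[N] v = v := by
  classical
  have := finite_Rl (hp := hp) (lam := lam) (i := i)
  have h1 : ∀ b : Rl hp lam i, ∃ u : 𝔽, u ≠ 0 ∧ ∀ c : 𝔽, α (xc hp b.1 c) = xc hp (θ b.1) (u * c ^ r ^ e) := fun b =>
    Cfsg.Agent.H508.Dens.frob_form hp M.toCoxeterSystem hα F b.2.1
  choose w hw hw' using h1
  let π : Equiv.Perm (Rl hp lam i) :=
    { toFun := fun b => ⟨θ b.1, (F.root _).2 b.2.1, by rw [hlam]; exact b.2.2⟩
      invFun := fun b => ⟨θ.symm b.1, (F.root _).1 (by rw [AddEquiv.apply_symm_apply]; exact b.2.1), by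
        rw [← hlam, AddEquiv.apply_symm_apply]; exact b.2.2⟩
      left_inv := fun b => Subtype.ext (AddEquiv.symm_apply_apply _ _)
      right_inv := fun b => Subtype.ext (AddEquiv.apply_symm_apply _ _) }
  let γ : (Rl hp lam i → 𝔽) →ₛₗ[fr 𝔽 r e] (Rl hp lam i → 𝔽) :=
    { toFun := fun f b => w (π.symm b) * fr 𝔽 r e (f (π.symm b))
      map_add' := fun f g => by
        funext b
        simp only [Pi.add_apply, map_add, mul_add]
      map_smul' := fun c f => by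
        funext b
        simp only [Pi.smul_apply, smul_eq_mul, map_mul]
        ring }
  have hγ : ∀ f b, γ f (π b) = w b * fr 𝔽 r e (f b) := by
    intro f b
    show w (π.symm (π b)) * fr 𝔽 r e (f (π.symm (π b))) = _
    rw [Equiv.symm_apply_apply]
  refine ⟨γ, fun u hu => ?_, fun v => periodic_pi (pe_fr (k := 𝔽) (p := r) e) (fun N hN => finite_fr he N hN) π hw hγ v⟩
  funext b
  obtain ⟨b, rfl⟩ := π.surjective b
  rw [hγ, fr_apply]
  exact kap_map hs hi F hlam hu b (π b) rfl (g := fun c => w b * c ^ r ^ e) (hw' b)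

/-- **Lifting of fixed vectors.** -/
theorem exists_lift (hs : SL M.toCoxeterSystem hp.isCartan) (he : 0 < e) {α : MulAut ↥(D.group 𝔽)}
    {θ : (Fin l → ℤ) ≃+ (Fin l → ℤ)} (hα : IsFrob r e α)
    (F : Fr M.toCoxeterSystem hp.isCartan (TT D 𝔽) (XX D l 𝔽) α θ) (hlam : ∀ x, lam (θ x) = lam x)
    (hi : 0 < i) {γ : (Rl hp lam i → 𝔽) →ₛₗ[fr 𝔽 r e] (Rl hp lam i → 𝔽)}
    (hγ : ∀ u ∈ US D l 𝔽 (Lv hp lam i), kap hp lam i (α u) = γ (kap hp lam i u)) {v : Rl hp lam i → 𝔽} (hv : γ v = v) :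
    ∃ u ∈ US D l 𝔽 (Lv hp lam i), α u = u ∧ kap hp lam i u = v := by
  obtain ⟨u, hu, e1⟩ := kap_surj hs hi v
  have hαu : α u ∈ US D l 𝔽 (Lv hp lam i) := (US_map F hlam).2 hu
  have h1 : kap hp lam i (u⁻¹ * α u) = 0 := by
    rw [kap_mul hs hi (inv_mem hu) hαu, kap_inv hs hi hu, hγ u hu, e1, hv, neg_add_cancel]
  have h2 := kap_ker hs hi (mul_mem (inv_mem hu) hαu) h1
  obtain ⟨y, hy, e2⟩ := lang_fr hp M.toCoxeterSystem he hα F (S := Lv hp lam (i + 1)) (fun a ha => ha.1)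
    (fun a ha => ⟨(F.root a).2 ha.1, by rw [hlam]; exact ha.2⟩) h2
  have hy' : y ∈ US D l 𝔽 (Lv hp lam i) := RGD.Sup_mono (Lv_mono (by omega)) hy
  refine ⟨u * y⁻¹, mul_mem hu (inv_mem hy'), ?_, ?_⟩
  · rw [map_mul, map_inv]
    have h3 : α u = u * (y⁻¹ * α y) := by rw [← e2, mul_inv_cancel_left]
    rw [h3]
    group
  · rw [kap_mul hs hi hu (inv_mem hy'), kap_inv hs hi hy', kap_of_gt hs hi hy, neg_zero, add_zero, e1]

/-- **The fixed points of the top layer are products of commutators of fixed points.** -/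
theorem mem_of_comm (hs : SL M.toCoxeterSystem hp.isCartan) (he : 0 < e) {α : MulAut ↥(D.group 𝔽)}
    {θ : (Fin l → ℤ) ≃+ (Fin l → ℤ)} (hα : IsFrob r e α)
    (F : Fr M.toCoxeterSystem hp.isCartan (TT D 𝔽) (XX D l 𝔽) α θ) (hlam : ∀ x, lam (θ x) = lam x)
    (hi : 0 < i) (hj : 0 < j) (htop : ∀ b, IsRoot M.toCoxeterSystem hp.isCartan b → lam b ≤ i + j)
    (hdec : ∀ b, IsRoot M.toCoxeterSystem hp.isCartan b → lam b = i + j →
      ∃ x y, IsRoot M.toCoxeterSystem hp.isCartan x ∧ IsRoot M.toCoxeterSystem hp.isCartan y ∧ lam x = i ∧ lam y = j ∧ x + y = b)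
    (K : Subgroup ↥(D.group 𝔽)) (hK : ∀ u ∈ US D l 𝔽 (Lv hp lam i), ∀ v ∈ US D l 𝔽 (Lv hp lam j), α u = u → α v = v →
      ⁅u, v⁆ ∈ K) {n : ↥(D.group 𝔽)} (hn : n ∈ US D l 𝔽 (Lv hp lam (i + j))) (hαn : α n = n) : n ∈ K := by
  have hij : 0 < i + j := by omega
  obtain ⟨B, hB⟩ := exists_form (hp := hp) (r := r) hs hi hj htop
  obtain ⟨γ1, h1, p1⟩ := exists_sem (hp := hp) hs he hα F hlam hi
  obtain ⟨γ2, h2, p2⟩ := exists_sem (hp := hp) hs he hα F hlam hj
  obtain ⟨γ3, h3, -⟩ := exists_sem (hp := hp) hs he hα F hlam hij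
  have hBe : ∀ v w, γ3 (B v w) = B (γ1 v) (γ2 w) := by
    intro v w
    obtain ⟨a, ha, rfl⟩ := kap_surj hs hi v
    obtain ⟨b, hb, rfl⟩ := kap_surj hs hj w
    have ha' : α a ∈ US D l 𝔽 (Lv hp lam i) := (US_map F hlam).2 ha
    have hb' : α b ∈ US D l 𝔽 (Lv hp lam j) := (US_map F hlam).2 hb
    rw [← hB a ha b hb, ← h1 a ha, ← h2 b hb, ← hB _ ha' _ hb', ← h3 _ (comm_Lv hi hj ha hb), map_commutatorElement]
  have hfix : γ3 (kap hp lam (i + j) n) = kap hp lam (i + j) n := by rw [← h3 n hn, hαn]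
  have h4 := form (ex_fr (k := 𝔽) (p := r) he) (pe_fr (k := 𝔽) (p := r) e) γ1 γ2 γ3 p1 p2 B hBe hfix
    (mem_span_form hs hi hj hdec hB _)
  have key : ∀ z ∈ AddSubgroup.closure {x | ∃ v w, γ1 v = v ∧ γ2 w = w ∧ B v w = x},
      ∃ k ∈ K, k ∈ US D l 𝔽 (Lv hp lam (i + j)) ∧ kap hp lam (i + j) k = z := by
    intro z hz
    induction hz using AddSubgroup.closure_induction with
    | mem z hz =>
      obtain ⟨v, w, hv, hw, rfl⟩ := hz
      obtain ⟨a, ha, hαa, rfl⟩ := exists_lift hs he hα F hlam hi h1 hv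
      obtain ⟨b, hb, hαb, rfl⟩ := exists_lift hs he hα F hlam hj h2 hw
      exact ⟨⁅a, b⁆, hK a ha b hb hαa hαb, comm_Lv hi hj ha hb, hB a ha b hb⟩
    | zero => exact ⟨1, one_mem _, one_mem _, kap_one hs hij⟩
    | add z z' _ _ ih ih' =>
      obtain ⟨k, hk, hk', rfl⟩ := ih
      obtain ⟨k', hkk, hkk', rfl⟩ := ih'
      exact ⟨k * k', mul_mem hk hkk, mul_mem hk' hkk', kap_mul hs hij hk' hkk'⟩
    | neg z _ ih =>
      obtain ⟨k, hk, hk', rfl⟩ := ih
      exact ⟨k⁻¹, inv_mem hk, inv_mem hk', kap_inv hs hij hk'⟩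
  obtain ⟨k, hk, hk', e1⟩ := key _ h4
  have h5 : k⁻¹ * n ∈ US D l 𝔽 (Lv hp lam (i + j + 1)) := by
    refine kap_ker hs hij (mul_mem (inv_mem hk') hn) ?_
    rw [kap_mul hs hij (inv_mem hk') hn, kap_inv hs hij hk', e1, neg_add_cancel]
  have h6 := US_top htop (by omega : i + j < i + j + 1) h5
  rw [inv_mul_eq_one] at h6
  rwa [← h6]

end

/-! ### group theory -/

section grp

open Cfsg.Agent.H380.RC

variable {G : Type*} [Group G] {U N : Subgroup G} {y : G}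

theorem mod_surj [Finite U] (hNU : N ≤ U) (hcen : ∀ u ∈ U, ∀ n ∈ N, u * n = n * u) (hyU : ∀ u ∈ U, y * u * y⁻¹ ∈ U)
    (hyN : ∀ u ∈ N, y * u * y⁻¹ ∈ N) (hfix : ∀ u ∈ U, y * u * y⁻¹ * u⁻¹ ∈ N → u ∈ N) {u : G} (hu : u ∈ U) :
    ∃ k, (∃ a ∈ U, k = a * y * a⁻¹ * y⁻¹) ∧ ∃ n ∈ N, u = k * n := by
  -- the relation
  let s : Setoid U :=
    { r := fun a b => (a : G)⁻¹ * b ∈ N
      iseqv := ⟨fun a => by rw [inv_mul_cancel]; exact one_mem _, fun {a b} h => by
        have := inv_mem h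
        rwa [mul_inv_rev, inv_inv] at this, fun {a b c} h h' => by
        have := mul_mem h h'
        have e : (a : G)⁻¹ * b * ((b : G)⁻¹ * c) = (a : G)⁻¹ * c := by group
        rwa [e] at this⟩ }
  let g : U → U := fun a => ⟨(a : G) * (y * (a : G)⁻¹ * y⁻¹), mul_mem a.2 (hyU _ (inv_mem a.2))⟩
  have hg : ∀ a b : U, s.r a b ↔ s.r (g a) (g b) := by
    intro a b
    show (a : G)⁻¹ * b ∈ N ↔ ((a : G) * (y * (a : G)⁻¹ * y⁻¹))⁻¹ * ((b : G) * (y * (b : G)⁻¹ * y⁻¹)) ∈ N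
    have hyb : y * (b : G) * y⁻¹ ∈ U := hyU _ b.2
    constructor
    · intro h
      set n := (a : G)⁻¹ * b with hn
      have hb : (b : G) = a * n := by rw [hn]; group
      have h1 : y * n⁻¹ * y⁻¹ ∈ N := hyN _ (inv_mem h)
      have h2 : y * (a : G)⁻¹ * y⁻¹ ∈ U := hyU _ (inv_mem a.2)
      have h3 : ((a : G) * (y * (a : G)⁻¹ * y⁻¹))⁻¹ * ((b : G) * (y * (b : G)⁻¹ * y⁻¹)) =
          (y * (a : G)⁻¹ * y⁻¹)⁻¹ * (n * (y * n⁻¹ * y⁻¹)) * (y * (a : G)⁻¹ * y⁻¹) := by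
        rw [hb]; group
      rw [h3]
      have h4 := hcen _ (inv_mem h2) _ (mul_mem h h1)
      rw [h4, inv_mul_cancel_right]
      exact mul_mem h h1
    · intro h
      set n := ((a : G) * (y * (a : G)⁻¹ * y⁻¹))⁻¹ * ((b : G) * (y * (b : G)⁻¹ * y⁻¹)) with hn
      have h1 : (a : G)⁻¹ * b = (y * (a : G)⁻¹ * y⁻¹) * n * (y * (b : G) * y⁻¹) := by rw [hn]; group
      apply hfix _ (mul_mem (inv_mem a.2) b.2)
      have h2 := hcen _ hyb _ h
      have h3 : y * ((a : G)⁻¹ * b) * y⁻¹ * n = (a : G)⁻¹ * b := by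
        calc y * ((a : G)⁻¹ * b) * y⁻¹ * n = (y * (a : G)⁻¹ * y⁻¹) * ((y * (b : G) * y⁻¹) * n) := by group
          _ = (y * (a : G)⁻¹ * y⁻¹) * (n * (y * (b : G) * y⁻¹)) := by rw [h2]
          _ = (y * (a : G)⁻¹ * y⁻¹) * n * (y * (b : G) * y⁻¹) := (mul_assoc _ _ _).symm
          _ = (a : G)⁻¹ * b := h1.symm
      have h4 := eq_mul_inv_of_mul_eq h3
      rw [h4, hcen _ (mul_mem (inv_mem a.2) b.2) _ (inv_mem h), mul_inv_cancel_right]
      exact inv_mem h
  let g' : Quotient s → Quotient s := Quotient.map' g fun a b h => (hg a b).1 h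
  have hinj : Function.Injective g' := by
    intro a b
    induction a using Quotient.inductionOn'
    induction b using Quotient.inductionOn'
    intro h
    exact Quotient.sound' ((hg _ _).2 (Quotient.exact' h))
  obtain ⟨a, ha⟩ := (Finite.injective_iff_surjective.1 hinj) (Quotient.mk'' (⟨u, hu⟩ : U))
  induction a using Quotient.inductionOn' with | h a => ?_
  have h1 : ((a : G) * (y * (a : G)⁻¹ * y⁻¹))⁻¹ * u ∈ N := Quotient.exact' ha
  exact ⟨_, ⟨a, a.2, rfl⟩, _, h1, by group⟩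

/-- **`U ≤ [U, y]`** if `y` has fixed points only on the central subgroup `N ≤ [U, U]`. -/
theorem le_cmm [Finite U] (hNU : N ≤ U) (hcen : ∀ u ∈ U, ∀ n ∈ N, u * n = n * u) (hyU : ∀ u ∈ U, y * u * y⁻¹ ∈ U)
    (hyN : ∀ u ∈ N, y * u * y⁻¹ ∈ N) (hfix : ∀ u ∈ U, y * u * y⁻¹ * u⁻¹ ∈ N → u ∈ N)
    (hN : ∀ K : Subgroup G, (∀ u ∈ U, ∀ v ∈ U, ⁅u, v⁆ ∈ K) → N ≤ K) : U ≤ cmm U y := by
  have key : ∀ u ∈ U, ∃ k ∈ cmm U y, ∃ n ∈ N, u = k * n := by
    intro u hu
    obtain ⟨k, ⟨a, ha, rfl⟩, n, hn, e⟩ := mod_surj hNU hcen hyU hyN hfix hu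
    exact ⟨_, mem_cmm ha, n, hn, e⟩
  have h1 : N ≤ cmm U y := by
    apply hN
    intro u hu v hv
    obtain ⟨k, hk, n, hn, rfl⟩ := key u hu
    obtain ⟨k', hk', n', hn', rfl⟩ := key v hv
    have hkU : k ∈ U := by
      have := mul_mem hu (inv_mem (hNU hn))
      rwa [mul_inv_cancel_right] at this
    have h2 : ⁅k * n, k' * n'⁆ = ⁅k, k'⁆ := by
      have hkU' : k' ∈ U := by
        have := mul_mem hv (inv_mem (hNU hn'))
        rwa [mul_inv_cancel_right] at this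
      have e1 := hcen _ (mul_mem hkU' (hNU hn')) _ hn
      have e2 := hcen _ hkU _ hn'
      rw [commutatorElement_def, commutatorElement_def]
      calc k * n * (k' * n') * (k * n)⁻¹ * (k' * n')⁻¹ = k * (n * (k' * n')) * n⁻¹ * k⁻¹ * (k' * n')⁻¹ := by group
        _ = k * (k' * n' * n) * n⁻¹ * k⁻¹ * (k' * n')⁻¹ := by rw [e1]
        _ = k * k' * (n' * k⁻¹) * n'⁻¹ * k'⁻¹ := by group
        _ = k * k' * (k⁻¹ * n') * n'⁻¹ * k'⁻¹ := by rw [hcen _ (inv_mem hkU) _ hn']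
        _ = k * k' * k⁻¹ * k'⁻¹ := by group
    rw [h2, commutatorElement_def]
    exact cmm_comm hkU hk'
  intro u hu
  obtain ⟨k, hk, n, hn, rfl⟩ := key u hu
  exact mul_mem hk (h1 hn)

end grp

open Cfsg.Agent.H380.RC

/-- **`U ≤ [U, y]`** if `y` has no fixed points on the layers below the top layer. -/
theorem fix_le_cmm (hs : SL M.toCoxeterSystem hp.isCartan) (he : 0 < e) {α : MulAut ↥(D.group 𝔽)}
    {θ : (Fin l → ℤ) ≃+ (Fin l → ℤ)} (hα : IsFrob r e α)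
    (F : Fr M.toCoxeterSystem hp.isCartan (TT D 𝔽) (XX D l 𝔽) α θ) (hlam : ∀ x, lam (θ x) = lam x)
    (hi : 0 < i) (hj : 0 < j) (htop : ∀ b, IsRoot M.toCoxeterSystem hp.isCartan b → lam b ≤ i + j)
    (hdec : ∀ b, IsRoot M.toCoxeterSystem hp.isCartan b → lam b = i + j →
      ∃ x y, IsRoot M.toCoxeterSystem hp.isCartan x ∧ IsRoot M.toCoxeterSystem hp.isCartan y ∧ lam x = i ∧ lam y = j ∧ x + y = b)
    {U : Subgroup ↥(D.group 𝔽)} (hU : ∀ u, u ∈ U ↔ u ∈ US D l 𝔽 (Lv hp lam 1) ∧ α u = u) [Finite ↥U]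
    {y : ↥(D.group 𝔽)} (hy : y ∈ TT D 𝔽) (hαy : α y = y)
    (hS : ∀ b, IsRoot M.toCoxeterSystem hp.isCartan b → 0 < lam b → lam b < i + j → ch hp b y ≠ 1) : U ≤ cmm U y := by
  have hij : 0 < i + j := by omega
  -- the torus normalises the layers
  have hconj : ∀ (m : ℤ) {u : ↥(D.group 𝔽)}, u ∈ US D l 𝔽 (Lv hp lam m) → y * u * y⁻¹ ∈ US D l 𝔽 (Lv hp lam m) := by
    intro m u hu
    have key : US D l 𝔽 (Lv hp lam m) ≤ (US D l 𝔽 (Lv hp lam m)).comap (MulAut.conj y).toMonoidHom := by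
      refine RGD.Sup_le fun a ha g hg => ?_
      change y * g * y⁻¹ ∈ US D l 𝔽 (Lv hp lam m)
      obtain ⟨c, rfl⟩ := ((coord hp ha.1).mem _).1 hg
      rw [(coord hp ha.1).act y hy]
      exact RGD.le_Sup (S := Lv hp lam m) ha (xc_mem hp ha.1 _)
    exact key hu
  have hfixy : ∀ {u : ↥(D.group 𝔽)}, α u = u → α (y * u * y⁻¹) = y * u * y⁻¹ := fun {u} h => by
    rw [map_mul, map_mul, map_inv, hαy, h]
  let N : Subgroup ↥(D.group 𝔽) := U ⊓ US D l 𝔽 (Lv hp lam (i + j))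
  refine le_cmm (N := N) inf_le_left (fun u hu n hn => top_central hij htop ((hU u).1 hu).1 hn.2) ?_ ?_ ?_ ?_
  · intro u hu
    obtain ⟨h1, h2⟩ := (hU u).1 hu
    exact (hU _).2 ⟨hconj 1 h1, hfixy h2⟩
  · intro u hu
    obtain ⟨h1, h2⟩ := (hU u).1 hu.1
    exact ⟨(hU _).2 ⟨hconj 1 h1, hfixy h2⟩, hconj _ hu.2⟩
  · intro u hu hw
    refine ⟨hu, ?_⟩
    have key : ∀ m : ℕ, (m : ℤ) + 1 ≤ i + j → u ∈ US D l 𝔽 (Lv hp lam ((m : ℤ) + 1)) := by
      intro m
      induction m with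
      | zero =>
        intro _
        have := ((hU u).1 hu).1
        rwa [Nat.cast_zero, zero_add]
      | succ m ih =>
        intro hm
        push_cast at hm
        have h1 := ih (by omega)
        have hm0 : (0 : ℤ) < (m : ℤ) + 1 := by omega
        push_cast
        refine kap_ker hs hm0 h1 ?_
        have h2 : y * u * y⁻¹ * u⁻¹ ∈ US D l 𝔽 (Lv hp lam ((m : ℤ) + 1 + 1)) := RGD.Sup_mono (Lv_mono (by omega)) hw.2
        have h3 : kap hp lam ((m : ℤ) + 1) (y * u * y⁻¹) = kap hp lam ((m : ℤ) + 1) u := by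
          have h4 : y * u * y⁻¹ = (y * u * y⁻¹ * u⁻¹) * u := by group
          rw [h4, kap_mul hs hm0 (RGD.Sup_mono (Lv_mono (by omega)) h2) h1, kap_of_gt hs hm0 h2, zero_add]
        funext b
        have h5 := congrFun h3 b
        rw [kap_tor hs hm0 hy h1 b] at h5
        have h6 := hS b.1 b.2.1 (by rw [b.2.2]; exact hm0) (by rw [b.2.2]; omega)
        have h7 : (ch hp b.1 y - 1) * kap hp lam ((m : ℤ) + 1) u b = 0 := by rw [sub_mul, h5, one_mul, sub_self]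
        exact (mul_eq_zero.1 h7).resolve_left (sub_ne_zero.2 h6)
    obtain ⟨m, hm⟩ := Int.eq_ofNat_of_zero_le (by omega : 0 ≤ i + j - 1)
    have h1 := key m (by omega)
    rwa [show (m : ℤ) + 1 = i + j by omega] at h1
  · intro K hK n hn
    obtain ⟨h1, h2⟩ := hn
    exact mem_of_comm hs he hα F hlam hi hj htop hdec K
      (fun u hu v hv hαu hαv => hK u ((hU u).2 ⟨US_le_one hi hu, hαu⟩) v ((hU v).2 ⟨US_le_one hj hv, hαv⟩)) h2
      ((hU n).1 h1).2

end Cfsg.Agent.H24.MX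
end

-- part: H24/MX/Comb
section
/-!
# S3509 MIX, box M4t: the combinatorics of `lam = ∑ ⟨., (g i)^∨⟩` (helper24)

`g i`, `i < a`, orthogonal roots, `a ≥ 2`, simply laced:

* `lam_le` : `lam ≤ a` on the roots;
* `prod_ne_one2` : the character of `y` is not trivial if `0 < lam < a`, `q ≥ 2`;
* `dec_ge_three`, `dec_two` : the roots of level `a` are sums of two roots of levels `2`, `a - 2` (`a ≥ 3`), resp. `1`, `1`
  (`a = 2`, some `lam b` odd);
* `odd_of_check` : the existence of a root of odd level from the tables.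
-/

set_option autoImplicit false
set_option linter.unusedSectionVars false

namespace Cfsg.Agent.H24.MX

open CoxeterSystem Cfsg Cfsg.Lie Cfsg.Lie.ChevalleyDatum
open Cfsg.Agent.ChevalleyStructure Cfsg.Agent.ChevalleyStructure.Elts Cfsg.Agent.ChevalleyStructure.CoxeterGeom
  Cfsg.Agent.ChevalleyStructure.CoxeterGeomTypes Cfsg.Agent.ChevalleyStructure.NPerm
open Cfsg.Agent.Tits.Roots Cfsg.Agent.Tits.Core Cfsg.Agent.Nodes.Reps Cfsg.Agent.Nodes.BNOf
  Cfsg.Agent.Nodes.RGDChev Cfsg.Agent.Nodes.Coroot Cfsg.Agent.KFacts.RgdSL Cfsg.Agent.H520.MX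

/-! ### arithmetic -/

theorem digits_zero2 : ∀ (a : ℕ) (e : ℕ → ℤ), (∀ i < a, |e i| ≤ 1) → ∑ i ∈ Finset.range a, (2 : ℤ) ^ i * e i = 0 →
    ∀ i < a, e i = 0
  | 0, _, _, _ => by simp
  | a + 1, e, he, h0 => by
    rw [Finset.sum_range_succ'] at h0
    have h1 : ∑ i ∈ Finset.range a, (2 : ℤ) ^ (i + 1) * e (i + 1) = 2 * ∑ i ∈ Finset.range a, (2 : ℤ) ^ i * e (i + 1) := by
      rw [Finset.mul_sum]
      exact Finset.sum_congr rfl fun i _ => by ring
    rw [h1, pow_zero, one_mul] at h0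
    have h2 := abs_le.1 (he 0 (by omega))
    have h3 : e 0 = 0 := by omega
    have h4 := digits_zero2 a (fun i => e (i + 1)) (fun i hi => he (i + 1) (by omega)) (by omega)
    intro i hi
    rcases i with _ | i
    · exact h3
    · exact h4 i (by omega)

theorem geom2 (a : ℕ) : ∑ i ∈ Finset.range a, (2 : ℤ) ^ i = 2 ^ a - 1 := by
  induction a with
  | zero => simp
  | succ a ih => rw [Finset.sum_range_succ, ih, pow_succ]; ring

theorem not_dvd2 {a : ℕ} (ha : 2 ≤ a) {e : ℕ → ℤ} (he : EC a e) (h0 : 0 < ∑ i ∈ Finset.range a, e i)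
    (h1 : ∑ i ∈ Finset.range a, e i < a) : ¬ ((2 : ℤ) ^ a - 1) ∣ ∑ i ∈ Finset.range a, (2 : ℤ) ^ i * e i := by
  have h4 : (4 : ℤ) ≤ 2 ^ a := by
    calc (4 : ℤ) = 2 ^ 2 := by norm_num
      _ ≤ 2 ^ a := pow_le_pow_right₀ (by norm_num) ha
  intro hd
  rcases he with he | ⟨k, hk, h2, hz⟩
  · have hle : |∑ i ∈ Finset.range a, (2 : ℤ) ^ i * e i| ≤ 2 ^ a - 1 := by
      rw [← geom2]
      refine (Finset.abs_sum_le_sum_abs _ _).trans (Finset.sum_le_sum fun i hi => ?_)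
      rw [abs_mul, abs_of_pos (by positivity : (0 : ℤ) < 2 ^ i)]
      exact mul_le_of_le_one_right (by positivity) (he i (Finset.mem_range.1 hi))
    have hcases : ∑ i ∈ Finset.range a, (2 : ℤ) ^ i * e i = 0 ∨ ∑ i ∈ Finset.range a, (2 : ℤ) ^ i * e i = 2 ^ a - 1 ∨
        ∑ i ∈ Finset.range a, (2 : ℤ) ^ i * e i = -(2 ^ a - 1) := by
      by_cases hne : ∑ i ∈ Finset.range a, (2 : ℤ) ^ i * e i = 0
      · exact Or.inl hne
      · have h3 := Int.le_of_dvd (abs_pos.2 hne) ((dvd_abs _ _).2 hd)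
        rcases abs_cases (∑ i ∈ Finset.range a, (2 : ℤ) ^ i * e i) with ⟨h, _⟩ | ⟨h, _⟩ <;> rw [h] at h3 hle <;> omega
    rcases hcases with h | h | h
    · have h3 := digits_zero2 a e he h
      rw [Finset.sum_eq_zero fun i hi => h3 i (Finset.mem_range.1 hi)] at h0
      exact lt_irrefl _ h0
    · have h3 : ∑ i ∈ Finset.range a, (2 : ℤ) ^ i * (1 - e i) = 0 := by
        have : ∑ i ∈ Finset.range a, (2 : ℤ) ^ i * (1 - e i) =
            ∑ i ∈ Finset.range a, (2 : ℤ) ^ i - ∑ i ∈ Finset.range a, (2 : ℤ) ^ i * e i := by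
          rw [← Finset.sum_sub_distrib]
          exact Finset.sum_congr rfl fun i _ => by ring
        rw [this, geom2, h, sub_self]
      have h5 := (Finset.sum_eq_zero_iff_of_nonneg fun i hi => by
        have := (abs_le.1 (he i (Finset.mem_range.1 hi))).2
        have h6 : (0 : ℤ) < 2 ^ i := by positivity
        nlinarith only [this, h6]).1 h3
      have h6 : ∑ i ∈ Finset.range a, e i = a := by
        rw [Finset.sum_congr rfl fun i hi => (by
          have h7 := h5 i hi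
          have h8 : (2 : ℤ) ^ i ≠ 0 := by positivity
          have h9 := (mul_eq_zero.1 h7).resolve_left h8
          omega : e i = 1)]
        simp
      omega
    · have h3 : ∑ i ∈ Finset.range a, (2 : ℤ) ^ i * (1 + e i) = 0 := by
        have : ∑ i ∈ Finset.range a, (2 : ℤ) ^ i * (1 + e i) =
            ∑ i ∈ Finset.range a, (2 : ℤ) ^ i + ∑ i ∈ Finset.range a, (2 : ℤ) ^ i * e i := by
          rw [← Finset.sum_add_distrib]
          exact Finset.sum_congr rfl fun i _ => by ring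
        rw [this, geom2, h, add_neg_cancel]
      have h5 := (Finset.sum_eq_zero_iff_of_nonneg fun i hi => by
        have := (abs_le.1 (he i (Finset.mem_range.1 hi))).1
        have h6 : (0 : ℤ) < 2 ^ i := by positivity
        nlinarith only [this, h6]).1 h3
      have h6 : ∑ i ∈ Finset.range a, e i ≤ 0 := by
        refine Finset.sum_nonpos fun i hi => ?_
        have h7 := h5 i hi
        have h8 : (2 : ℤ) ^ i ≠ 0 := by positivity
        have h9 := (mul_eq_zero.1 h7).resolve_left h8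
        omega
      omega
  · rw [Finset.sum_eq_single k (fun i hi hne => by rw [hz i (Finset.mem_range.1 hi) hne, mul_zero])
      (fun h => absurd (Finset.mem_range.2 hk) h)] at hd
    rw [Finset.sum_eq_single k (fun i hi hne => hz i (Finset.mem_range.1 hi) hne)
      (fun h => absurd (Finset.mem_range.2 hk) h)] at h0
    have h5 : e k = 2 := by rwa [abs_of_pos h0] at h2
    rw [h5, ← pow_succ] at hd
    have h6 : IsCoprime ((2 : ℤ) ^ a - 1) 2 := by
      refine ⟨-1, 2 ^ (a - 1), ?_⟩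
      have : (2 : ℤ) ^ (a - 1) * 2 = 2 ^ a := by rw [← pow_succ]; congr 1; omega
      rw [this]; ring
    have h7 := (h6.pow_right (n := k + 1)).isUnit_of_dvd' dvd_rfl hd
    have h8 := Int.isUnit_iff.1 h7
    omega

theorem prod_ne_one2 {k : Type*} [Field k] {c : k} (hc : c ≠ 0) {q a : ℕ} (hq : 2 ≤ q) (ha : 2 ≤ a)
    (ho : orderOf c = q ^ a - 1) {e : ℕ → ℤ} (he : EC a e) (h0 : 0 < ∑ i ∈ Finset.range a, e i)
    (h1 : ∑ i ∈ Finset.range a, e i < a) : ∏ i ∈ Finset.range a, c ^ ((q : ℤ) ^ i * e i) ≠ 1 := by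
  rcases Nat.lt_or_ge 2 q with hq3 | hq2
  · exact prod_ne_one hc hq3 ha ho he h0.ne'
  have hqe : q = 2 := le_antisymm hq2 hq
  subst hqe
  intro h1'
  have h2 : ∀ s : Finset ℕ, ∏ i ∈ s, c ^ (((2 : ℕ) : ℤ) ^ i * e i) = c ^ (∑ i ∈ s, ((2 : ℕ) : ℤ) ^ i * e i) := by
    intro s
    induction s using Finset.induction_on with
    | empty => simp
    | insert b s hb ih => rw [Finset.prod_insert hb, Finset.sum_insert hb, zpow_add₀ hc, ih]
  rw [h2] at h1'
  have h3 : (Units.mk0 c hc) ^ (∑ i ∈ Finset.range a, ((2 : ℕ) : ℤ) ^ i * e i) = 1 := Units.ext (by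
    rw [Units.val_zpow_eq_zpow_val]
    exact h1')
  have h4 := orderOf_dvd_iff_zpow_eq_one.2 h3
  have h5 : orderOf (Units.mk0 c hc) = orderOf c := (orderOf_units (y := Units.mk0 c hc)).symm
  rw [h5, ho, Nat.cast_sub (Nat.one_le_pow _ _ (by omega)), Nat.cast_pow, Nat.cast_one] at h4
  exact not_dvd2 ha he h0 h1 (by exact_mod_cast h4)

/-! ### roots -/

section roots

variable {I W : Type*} [Fintype I] [DecidableEq I] [Group W] [Finite W] {M : CoxeterMatrix I}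
  {cs : CoxeterSystem M W} {A : I → I → ℤ} {h : IsCartan M A}

theorem sl_of (h4 : ∀ i j, M i j ≠ 4) (h6 : ∀ i j, M i j ≠ 6) : SL cs h := fun _ _ hx hy =>
  Cfsg.Agent.Nodes.SimplyLaced.cpr_symm cs h h4 h6 hx hy

theorem ec_le {a : ℕ} (ha : 2 ≤ a) {e : ℕ → ℤ} (he : EC a e) : ∑ i ∈ Finset.range a, e i ≤ a := by
  rcases he with he | ⟨k, hk, h2, hz⟩
  · calc ∑ i ∈ Finset.range a, e i ≤ ∑ i ∈ Finset.range a, (1 : ℤ) :=
        Finset.sum_le_sum fun i hi => (abs_le.1 (he i (Finset.mem_range.1 hi))).2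
      _ = a := by simp
  · rw [Finset.sum_eq_single k (fun i hi hne => hz i (Finset.mem_range.1 hi) hne)
      (fun h => absurd (Finset.mem_range.2 hk) h)]
    have := le_abs_self (e k)
    omega

/-- all digits are `1` -/
theorem ec_top {a : ℕ} {e : ℕ → ℤ} (he : ∀ i < a, |e i| ≤ 1) (h : ∑ i ∈ Finset.range a, e i = a) :
    ∀ i < a, e i = 1 := by
  have h3 : ∑ i ∈ Finset.range a, (1 - e i) = 0 := by
    rw [Finset.sum_sub_distrib, h]
    simp
  have h5 := (Finset.sum_eq_zero_iff_of_nonneg fun i hi => by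
    have := (abs_le.1 (he i (Finset.mem_range.1 hi))).2
    omega).1 h3
  intro i hi
  have := h5 i (Finset.mem_range.2 hi)
  omega

variable (hs : SL cs h) {a : ℕ} {g : ℕ → I → ℤ} (hg : ∀ i < a, IsRoot cs h (g i))
  (ho : ∀ i < a, ∀ j < a, i ≠ j → cpr cs h (g i) (g j) = 0) {lam : (I → ℤ) →+ ℤ}
  (hlam : ∀ x, lam x = ∑ i ∈ Finset.range a, cpr cs h x (g i))

include hs hg ho

theorem ec_root {b : I → ℤ} (hb : IsRoot cs h b) : EC a (fun i => cpr cs h b (g i)) := by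
  by_cases hex : ∃ k < a, b = g k ∨ b = -g k
  · obtain ⟨k, hk, hbk⟩ := hex
    refine Or.inr ⟨k, hk, ?_, fun i hi hne => ?_⟩
    · rcases hbk with rfl | rfl
      · show |cpr cs h (g k) (g k)| = 2
        rw [cpr_self cs h (hg k hk)]; rfl
      · show |cpr cs h (-g k) (g k)| = 2
        rw [cpr_neg cs h _ (hg k hk), cpr_self cs h (hg k hk)]; rfl
    · rcases hbk with rfl | rfl
      · exact ho k hk i hi (Ne.symm hne)
      · show cpr cs h (-g k) (g i) = 0
        rw [cpr_neg cs h _ (hg i hi), ho k hk i hi (Ne.symm hne), neg_zero]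
  · push Not at hex
    refine Or.inl fun i hi => ?_
    have := hs.abs_le hb (hg i hi) (hex i hi).1 (hex i hi).2
    exact abs_le.2 this

include hlam

theorem lam_le (ha : 2 ≤ a) {b : I → ℤ} (hb : IsRoot cs h b) : lam b ≤ a := by
  rw [hlam]
  exact ec_le ha (ec_root hs hg ho hb)

theorem lam_g {k : ℕ} (hk : k < a) : lam (g k) = 2 := by
  rw [hlam, Finset.sum_eq_single k (fun i hi hne => ho k hk i (Finset.mem_range.1 hi) (Ne.symm hne))
    (fun hn => absurd (Finset.mem_range.2 hk) hn), cpr_self cs h (hg k hk)]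

/-- the roots of level `a ≥ 3` -/
theorem dec_ge_three (ha : 3 ≤ a) {b : I → ℤ} (hb : IsRoot cs h b) (hb0 : lam b = 2 + ((a : ℤ) - 2)) :
    ∃ x y, IsRoot cs h x ∧ IsRoot cs h y ∧ lam x = 2 ∧ lam y = (a : ℤ) - 2 ∧ x + y = b := by
  have h0 : 0 < a := by omega
  have h1 : cpr cs h b (g 0) = 1 := by
    rcases ec_root hs hg ho hb with he | ⟨k, hk, h2, hz⟩
    · exact ec_top he (by rw [← hlam, hb0]; ring) 0 h0
    · exfalso
      rw [hlam, Finset.sum_eq_single k (fun i hi hne => hz i (Finset.mem_range.1 hi) hne)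
        (fun h => absurd (Finset.mem_range.2 hk) h)] at hb0
      have := le_abs_self (cpr cs h b (g k))
      have h2' : |cpr cs h b (g k)| = 2 := h2
      omega
  refine ⟨g 0, b - g 0, hg 0 h0, isRoot_sub hb (hg 0 h0) h1, lam_g hs hg ho hlam h0, ?_, by abel⟩
  rw [map_sub, lam_g hs hg ho hlam h0, hb0]
  ring

/-- the roots of level `2`, `a = 2` -/
theorem dec_two (ha : a = 2) {θ : (I → ℤ) ≃+ (I → ℤ)} (hθ : ∀ x y, IsRoot cs h x → IsRoot cs h y → cpr cs h (θ x) (θ y) = cpr cs h x y)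
    (hθr : ∀ x, IsRoot cs h (θ x) ↔ IsRoot cs h x) (h01 : θ (g 0) = g 1) (h10 : θ (g 1) = g 0)
    (hodd : ∃ c, IsRoot cs h c ∧ ¬ (2 : ℤ) ∣ lam c) {b : I → ℤ} (hb : IsRoot cs h b) (hb0 : lam b = 1 + 1) :
    ∃ x y, IsRoot cs h x ∧ IsRoot cs h y ∧ lam x = 1 ∧ lam y = 1 ∧ x + y = b := by
  subst ha
  have hg0 := hg 0 (by norm_num)
  have hg1 := hg 1 (by norm_num)
  have hl : ∀ x, lam x = cpr cs h x (g 0) + cpr cs h x (g 1) := fun x => by
    rw [hlam, Finset.sum_range_succ, Finset.sum_range_one]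
  have hle : ∀ {b}, IsRoot cs h b → lam b ≤ 2 := fun hb => lam_le hs hg ho hlam le_rfl hb
  have ho1 : cpr cs h (g 0) (g 1) = 0 := ho 0 (by norm_num) 1 (by norm_num) (by norm_num)
  have ho2 : cpr cs h (g 1) (g 0) = 0 := ho 1 (by norm_num) 0 (by norm_num) (by norm_num)
  have hsub : ∀ {x b : I → ℤ}, IsRoot cs h x → IsRoot cs h b → lam b = 2 → lam x = 1 → cpr cs h b x = 1 →
      ∃ x y, IsRoot cs h x ∧ IsRoot cs h y ∧ lam x = 1 ∧ lam y = 1 ∧ x + y = b := fun {x b} hx hb h1 h2 h3 =>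
    ⟨x, b - x, hx, isRoot_sub hb hx h3, h2, by rw [map_sub, h1, h2]; norm_num, by abel⟩
  -- a root with pairings `(1, 0)` or `(0, 1)`
  have hex : ∃ c, IsRoot cs h c ∧ ((cpr cs h c (g 0) = 1 ∧ cpr cs h c (g 1) = 0) ∨
      (cpr cs h c (g 0) = 0 ∧ cpr cs h c (g 1) = 1)) := by
    obtain ⟨c, hc, hodd⟩ := hodd
    rw [hl] at hodd
    have hn : ∀ {c}, IsRoot cs h c → -1 ≤ cpr cs h c (g 0) ∧ cpr cs h c (g 0) ≤ 1 ∧ -1 ≤ cpr cs h c (g 1) ∧
        cpr cs h c (g 1) ≤ 1 ∨ (2 : ℤ) ∣ cpr cs h c (g 0) + cpr cs h c (g 1) := by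
      intro c hc
      rcases ec_root hs hg ho hc with he | ⟨k, hk, h2, hz⟩
      · left
        have h3 := abs_le.1 (he 0 (by norm_num))
        have h4 := abs_le.1 (he 1 (by norm_num))
        exact ⟨h3.1, h3.2, h4.1, h4.2⟩
      · right
        have h2' : |cpr cs h c (g k)| = 2 := h2
        have h5 : (2 : ℤ) ∣ cpr cs h c (g k) := by
          rcases abs_eq (by norm_num : (0 : ℤ) ≤ 2) |>.1 h2' with h | h <;> rw [h] <;> norm_num
        interval_cases k
        · have h6 : cpr cs h c (g 1) = 0 := hz 1 (by norm_num) (by norm_num)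
          rw [h6, add_zero]; exact h5
        · have h6 : cpr cs h c (g 0) = 0 := hz 0 (by norm_num) (by norm_num)
          rw [h6, zero_add]; exact h5
    rcases hn hc with ⟨h1, h2, h3, h4⟩ | h1
    · have h5 : (cpr cs h c (g 0) = 1 ∧ cpr cs h c (g 1) = 0) ∨ (cpr cs h c (g 0) = 0 ∧ cpr cs h c (g 1) = 1) ∨
          (cpr cs h c (g 0) = -1 ∧ cpr cs h c (g 1) = 0) ∨ (cpr cs h c (g 0) = 0 ∧ cpr cs h c (g 1) = -1) := by omega
      rcases h5 with h5 | h5 | h5 | h5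
      · exact ⟨c, hc, Or.inl h5⟩
      · exact ⟨c, hc, Or.inr h5⟩
      · exact ⟨-c, hc.neg, Or.inl (by rw [cpr_neg _ _ _ hg0, cpr_neg _ _ _ hg1]; omega)⟩
      · exact ⟨-c, hc.neg, Or.inr (by rw [cpr_neg _ _ _ hg0, cpr_neg _ _ _ hg1]; omega)⟩
    · exact absurd h1 hodd
  -- both
  have hboth : (∃ c, IsRoot cs h c ∧ cpr cs h c (g 0) = 1 ∧ cpr cs h c (g 1) = 0) ∧
      (∃ c, IsRoot cs h c ∧ cpr cs h c (g 0) = 0 ∧ cpr cs h c (g 1) = 1) := by
    have ht0 : ∀ {c}, IsRoot cs h c → cpr cs h (θ c) (g 1) = cpr cs h c (g 0) := fun hc => by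
      rw [← h01]; exact hθ _ _ hc hg0
    have ht1 : ∀ {c}, IsRoot cs h c → cpr cs h (θ c) (g 0) = cpr cs h c (g 1) := fun hc => by
      conv_lhs => rw [← h10]
      exact hθ _ _ hc hg1
    obtain ⟨c, hc, ⟨h1, h2⟩ | ⟨h1, h2⟩⟩ := hex
    · exact ⟨⟨c, hc, h1, h2⟩, θ c, (hθr c).2 hc, by rw [ht1 hc, h2], by rw [ht0 hc, h1]⟩
    · exact ⟨⟨θ c, (hθr c).2 hc, by rw [ht1 hc, h2], by rw [ht0 hc, h1]⟩, c, hc, h1, h2⟩
  obtain ⟨⟨c, hc, hc0, hc1⟩, c', hc', hc0', hc1'⟩ := hboth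
  have hlc : lam c = 1 := by rw [hl, hc0, hc1]; norm_num
  have hlc' : lam c' = 1 := by rw [hl, hc0', hc1']; norm_num
  have hb2 : lam b = 2 := by rw [hb0]; norm_num
  by_cases hb_0 : b = g 0
  · subst hb_0
    exact hsub hc hb hb2 hlc (by rw [← hs _ _ hc hb]; exact hc0)
  by_cases hb_1 : b = g 1
  · subst hb_1
    exact hsub hc' hb hb2 hlc' (by rw [← hs _ _ hc' hb]; exact hc1')
  have hbn0 : b ≠ -g 0 := by
    rintro rfl
    rw [map_neg, lam_g hs hg ho hlam (by norm_num)] at hb2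
    norm_num at hb2
  have hbn1 : b ≠ -g 1 := by
    rintro rfl
    rw [map_neg, lam_g hs hg ho hlam (by norm_num)] at hb2
    norm_num at hb2
  have e0 := hs.abs_le hb hg0 hb_0 hbn0
  have e1 := hs.abs_le hb hg1 hb_1 hbn1
  rw [hl] at hb2
  have f0 : cpr cs h b (g 0) = 1 := by omega
  have f1 : cpr cs h b (g 1) = 1 := by omega
  have hb2' : lam b = 2 := by rw [hl]; omega
  have hcb : c ≠ b := by
    rintro rfl
    omega
  have hcb' : c ≠ -b := by
    rintro rfl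
    rw [cpr_neg _ _ _ hg0] at hc0
    omega
  have e2 := hs.abs_le hc hb hcb hcb'
  rcases (by omega : cpr cs h c b = 1 ∨ cpr cs h c b = -1 ∨ cpr cs h c b = 0) with h1 | h1 | h1
  · exact hsub hc hb hb2' hlc (by rw [← hs _ _ hc hb]; exact h1)
  · exfalso
    have h2 := hle (isRoot_add hc hb h1)
    rw [map_add] at h2
    omega
  · -- `x = c + (b - g 0)`
    have hd : IsRoot cs h (b - g 0) := isRoot_sub hb hg0 f0
    have h2 : cpr cs h c (b - g 0) = -1 := by
      rw [hs _ _ hc hd, sub_eq_add_neg, cpr_add _ _ _ _ hc, cpr_neg _ _ _ hc, ← hs _ _ hc hb, ← hs _ _ hc hg0]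
      omega
    have hx : IsRoot cs h (c + (b - g 0)) := isRoot_add hc hd h2
    refine hsub hx hb hb2' ?_ ?_
    · rw [map_add, map_sub, hb2', hlc, lam_g hs hg ho hlam (by norm_num)]
      norm_num
    · rw [← hs _ _ hx hb, cpr_add _ _ _ _ hb, sub_eq_add_neg, cpr_add _ _ _ _ hb, cpr_neg _ _ _ hb, cpr_self _ _ hb,
        ← hs _ _ hb hg0]
      omega

end roots

/-! ### tables -/

/-- the table check -/
def oddChk (D : ChevalleyDatum) (l : ℕ) : Bool :=
  (List.range l).all fun i0 => (List.range D.nroots).all fun t =>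
    D.cartan i0 t != 0 || (List.range l).any fun i => (D.cartan i (D.simple i0) + D.cartan i t) % 2 != 0

theorem odd_of_check {D : ChevalleyDatum} {l : ℕ} {M : CoxeterMatrix (Fin l)} (hp : IsType D l M)
    {W : Type*} [Group W] [Finite W] (cs : CoxeterSystem M W) (hs : SL cs hp.isCartan) (hchk : oddChk D l = true)
    {x y : Fin l → ℤ} (hx : IsRoot cs hp.isCartan x) (hy : IsRoot cs hp.isCartan y) (hxy : cpr cs hp.isCartan y x = 0) :
    ∃ c, IsRoot cs hp.isCartan c ∧ ¬ (2 : ℤ) ∣ cpr cs hp.isCartan c x + cpr cs hp.isCartan c y := by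
  obtain ⟨w, i0, rfl⟩ := hx
  have hy' : IsRoot cs hp.isCartan (rep cs hp.isCartan w⁻¹ y) := hy.act _
  have hyw : rep cs hp.isCartan w (rep cs hp.isCartan w⁻¹ y) = y := rep_apply_inv (cs := cs) (h := hp.isCartan) w y
  obtain ⟨t, ht, e⟩ := (isRoot_iff hp cs _).1 hy'
  rw [cpr_rep_sr, ← e, pairing_vec hp i0 ht] at hxy
  rw [oddChk, List.all_eq_true] at hchk
  have h1 := hchk i0 (List.mem_range.2 i0.2)
  rw [List.all_eq_true] at h1
  have h2 := h1 t (List.mem_range.2 ht)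
  rw [hxy] at h2
  simp only [bne_self_eq_false, Bool.false_or, List.any_eq_true, List.mem_range, bne_iff_ne, ne_eq] at h2
  obtain ⟨i, hi, h3⟩ := h2
  have hsi : D.simple i0 < D.nroots := simple_lt hp.inList (lt_rank hp i0)
  refine ⟨rep cs hp.isCartan w (sr ⟨i, hi⟩), (isRoot_sr cs hp.isCartan _).act w, ?_⟩
  have h4 : cpr cs hp.isCartan (rep cs hp.isCartan w (sr ⟨i, hi⟩)) (rep cs hp.isCartan w (sr i0)) = D.cartan i (D.simple i0) := by
    rw [cpr_rep _ _ _ _ (isRoot_sr cs hp.isCartan i0), hs _ _ (isRoot_sr cs hp.isCartan _) (isRoot_sr cs hp.isCartan i0),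
      cpr_sr, ← vec_simple hp i0, pairing_vec hp ⟨i, hi⟩ hsi]
  have h5 : cpr cs hp.isCartan (rep cs hp.isCartan w (sr ⟨i, hi⟩)) y = D.cartan i t := by
    rw [← hyw, cpr_rep _ _ _ _ hy', hs _ _ (isRoot_sr cs hp.isCartan _) hy', cpr_sr, ← e, pairing_vec hp ⟨i, hi⟩ ht]
  rw [h4, h5]
  omega

theorem oddChk_E6 : oddChk chevE6 6 = true := by (delta Cfsg.Agent.H24.MX.oddChk; rewrite [Cfsg.Agent.ChevFast.E6.cartan]; decide +kernel)

theorem oddChk_E7 : oddChk chevE7 7 = true := by (delta Cfsg.Agent.H24.MX.oddChk; rewrite [Cfsg.Agent.ChevFast.E7.cartan]; decide +kernel)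

theorem oddChk_E8 : oddChk chevE8 8 = true := by (delta Cfsg.Agent.H24.MX.oddChk; rewrite [Cfsg.Agent.ChevFast.E8.cartan]; decide +kernel)

end Cfsg.Agent.H24.MX
end

-- part: H24/MX/Top
section
/-!
# S3509 MIX, box M4t: `[U, y] = U` for `q ≥ 2` (helper24)

`UF_le_cmm_top` : `U ≤ [U, y]` if the characters of `y` are not trivial for `0 < lam b < i + j`, `lam ≤ i + j`, and the roots
of level `i + j` are sums of roots of levels `i` and `j`;
`UF_le_cmm_orb` : the case `lam x = ∑ ⟨x, (θ^i γ)^∨⟩`, `y = ∏ α^i (h_γ c)`, `c` of order `q ^ a - 1`, `a ≥ 2`, both signs.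
-/

set_option autoImplicit false
set_option linter.unusedSectionVars false

namespace Cfsg.Agent.H24.MX

open CoxeterSystem Cfsg Cfsg.Lie Cfsg.Lie.ChevalleyDatum
open Cfsg.Agent.ChevalleyStructure Cfsg.Agent.ChevalleyStructure.Elts Cfsg.Agent.ChevalleyStructure.CoxeterGeom
  Cfsg.Agent.ChevalleyStructure.CoxeterGeomTypes Cfsg.Agent.ChevalleyStructure.NPerm
open Cfsg.Agent.Tits.Roots Cfsg.Agent.Tits.Core Cfsg.Agent.Nodes Cfsg.Agent.Nodes.Reps Cfsg.Agent.Nodes.BNOf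
  Cfsg.Agent.Nodes.RGDChev Cfsg.Agent.Nodes.Coroot
open Cfsg.Agent.KFacts.RgdField Cfsg.Agent.KFacts.RgdChevCoord Cfsg.Agent.KFacts.RgdSL
open Cfsg.Agent.BpExc Cfsg.Agent.BpExc.Tow Cfsg.Agent.BpExc.TowChev Cfsg.Agent.BpExc.Fr Cfsg.Agent.BpExc.LangFr
open Cfsg.Agent.H469.Exc Cfsg.Agent.H316.U6 Cfsg.Agent.H129.TorusChar Cfsg.Agent.H380.RC Cfsg.Agent.H520.MX

universe v

variable {D : ChevalleyDatum} {l : ℕ} {M : CoxeterMatrix (Fin l)} {hp : IsType D l M} {r q : ℕ} [hr : Fact r.Prime]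
  {K₀ : Type v} [Group K₀]

/-- **`U ≤ [U, y]`.** -/
theorem UF_le_cmm_top (hs : SL M.toCoxeterSystem hp.isCartan) (m : MData hp r q K₀) {z n : ↥(D.group (KK r))}
    (hz : z⁻¹ * m.σ z = n) {θ : (Fin l → ℤ) ≃+ (Fin l → ℤ)}
    (F : Fr M.toCoxeterSystem hp.isCartan (TT D (KK r)) (XX D l (KK r)) (MulAut.conj n * m.σ) θ)
    {lam : (Fin l → ℤ) →+ ℤ} (hlam : ∀ x, lam (θ x) = lam x) {i j : ℤ}
    (hi : 0 < i) (hj : 0 < j) (htop : ∀ b, IsRoot M.toCoxeterSystem hp.isCartan b → lam b ≤ i + j)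
    (hdec : ∀ b, IsRoot M.toCoxeterSystem hp.isCartan b → lam b = i + j →
      ∃ x y, IsRoot M.toCoxeterSystem hp.isCartan x ∧ IsRoot M.toCoxeterSystem hp.isCartan y ∧ lam x = i ∧ lam y = j ∧ x + y = b)
    {y : ↥(D.group (KK r))} (hy : y ∈ TT D (KK r)) (hα : (MulAut.conj n * m.σ) y = y)
    (hS : ∀ b, IsRoot M.toCoxeterSystem hp.isCartan b → 0 < lam b → lam b < i + j → cX hp y b ≠ 1) :
    UF hp r lam (MulAut.conj n * m.σ) ≤ cmm (UF hp r lam (MulAut.conj n * m.σ)) y := by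
  have := finite_UF m hz lam
  have hLv : Lv hp lam 1 = {a | IsRoot M.toCoxeterSystem hp.isCartan a ∧ 0 < lam a} := by
    ext x
    exact ⟨fun h => ⟨h.1, by have := h.2; omega⟩, fun h => ⟨h.1, by have := h.2; omega⟩⟩
  refine fix_le_cmm (hp := hp) (e := m.e) hs m.he (m.frob.conj_mul n) F hlam hi hj htop hdec (fun u => ?_) hy hα
    (fun b hb h0 h1 => ?_)
  · rw [hLv]
    exact mem_UF
  · rw [← cX_root hp M.toCoxeterSystem hy hb]
    exact hS b hb h0 h1

/-- **`U^± ≤ [U^±, y]` for the functional of a `θ`-orbit of orthogonal roots.** -/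
theorem UF_le_cmm_orb (h4 : ∀ i j, M i j ≠ 4) (h6 : ∀ i j, M i j ≠ 6) (m : MData hp r q K₀) {z n : ↥(D.group (KK r))}
    (hz : z⁻¹ * m.σ z = n) {θ : (Fin l → ℤ) ≃+ (Fin l → ℤ)}
    (F : Fr M.toCoxeterSystem hp.isCartan (TT D (KK r)) (XX D l (KK r)) (MulAut.conj n * m.σ) θ)
    {a : ℕ} (ha : 2 ≤ a) (hodd : a = 2 → oddChk D l = true) {γ : Fin l → ℤ} (hγ : IsRoot M.toCoxeterSystem hp.isCartan γ)
    (hper : θ^[a] γ = γ)
    (ho : ∀ i < a, ∀ j < a, i ≠ j → cpr M.toCoxeterSystem hp.isCartan (θ^[i] γ) (θ^[j] γ) = 0)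
    (hθ : ∀ x y, IsRoot M.toCoxeterSystem hp.isCartan x → IsRoot M.toCoxeterSystem hp.isCartan y →
      cpr M.toCoxeterSystem hp.isCartan (θ x) (θ y) = cpr M.toCoxeterSystem hp.isCartan x y)
    {c : KK r} (hc : c ≠ 0) (hoc : orderOf c = q ^ a - 1)
    {y : ↥(D.group (KK r))} (hy : y ∈ TT D (KK r)) (hα : (MulAut.conj n * m.σ) y = y)
    (hcX : ∀ b, IsRoot M.toCoxeterSystem hp.isCartan b →
      cX hp y b = ∏ i ∈ Finset.range a, c ^ ((q : ℤ) ^ i * cpr M.toCoxeterSystem hp.isCartan b (θ^[i] γ)))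
    {lam : (Fin l → ℤ) →+ ℤ} (hlam : ∀ x, lam x = ∑ i ∈ Finset.range a, cpr M.toCoxeterSystem hp.isCartan x (θ^[i] γ))
    (hinv : ∀ x, lam (θ x) = lam x) :
    UF hp r lam (MulAut.conj n * m.σ) ≤ cmm (UF hp r lam (MulAut.conj n * m.σ)) y ∧
      UF hp r (-lam) (MulAut.conj n * m.σ) ≤ cmm (UF hp r (-lam) (MulAut.conj n * m.σ)) y := by
  have := finite_W hp M.toCoxeterSystem
  have hs : SL M.toCoxeterSystem hp.isCartan := sl_of h4 h6
  have hq : 2 ≤ q := by
    have h1 : r ^ m.e = q := m.hq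
    rw [← h1]
    exact hr.out.two_le.trans (Nat.le_self_pow m.he.ne' r)
  have hroot : ∀ i : ℕ, IsRoot M.toCoxeterSystem hp.isCartan (θ^[i] γ) := by
    intro i
    induction i with
    | zero => exact hγ
    | succ i ih => rw [Function.iterate_succ_apply']; exact (F.root _).2 ih
  have hg : ∀ i < a, IsRoot M.toCoxeterSystem hp.isCartan ((fun i => θ^[i] γ) i) := fun i _ => hroot i
  have ho' : ∀ i < a, ∀ j < a, i ≠ j →
    cpr M.toCoxeterSystem hp.isCartan ((fun i => θ^[i] γ) i) ((fun i => θ^[i] γ) j) = 0 := ho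
  have hle : ∀ b, IsRoot M.toCoxeterSystem hp.isCartan b → lam b ≤ a := fun b hb => lam_le hs hg ho' hlam ha hb
  have hS : ∀ b, IsRoot M.toCoxeterSystem hp.isCartan b → 0 < lam b → lam b < a → cX hp y b ≠ 1 := by
    intro b hb h0 h1
    rw [hcX b hb]
    rw [hlam] at h0 h1
    exact prod_ne_one2 hc hq ha hoc (ec_root hs hg ho' hb) h0 h1
  have hSn : ∀ b, IsRoot M.toCoxeterSystem hp.isCartan b → 0 < (-lam) b → (-lam) b < a → cX hp y b ≠ 1 := by
    intro b hb h0 h1 h2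
    refine hS (-b) hb.neg ?_ ?_ ?_
    · rw [map_neg]; exact h0
    · rw [map_neg]; exact h1
    · rw [hcX b hb] at h2
      rw [hcX _ hb.neg, ← inv_inj, inv_one, ← Finset.prod_inv_distrib]
      rw [← h2]
      refine Finset.prod_congr rfl fun i _ => ?_
      rw [cpr_neg _ _ _ (hroot i), mul_neg, zpow_neg, inv_inv]
  have hinv' : ∀ x, (-lam) (θ x) = (-lam) x := fun x => by
    rw [AddMonoidHom.neg_apply, AddMonoidHom.neg_apply, hinv]
  have hle' : ∀ b, IsRoot M.toCoxeterSystem hp.isCartan b → (-lam) b ≤ a := fun b hb => by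
    have := hle (-b) hb.neg
    rwa [map_neg] at this
  -- the two cases
  obtain ⟨i, j, hi, hj, hij, hdec⟩ : ∃ i j : ℤ, 0 < i ∧ 0 < j ∧ i + j = a ∧
      ∀ b, IsRoot M.toCoxeterSystem hp.isCartan b → lam b = i + j →
      ∃ x y, IsRoot M.toCoxeterSystem hp.isCartan x ∧ IsRoot M.toCoxeterSystem hp.isCartan y ∧ lam x = i ∧ lam y = j ∧
        x + y = b := by
    rcases Nat.lt_or_ge 2 a with h3 | h2
    · exact ⟨2, (a : ℤ) - 2, by norm_num, by omega, by ring, fun b hb hb0 => dec_ge_three hs hg ho' hlam h3 hb hb0⟩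
    · have ha2 : a = 2 := le_antisymm h2 ha
      refine ⟨1, 1, one_pos, one_pos, by rw [ha2]; norm_num, fun b hb hb0 => ?_⟩
      subst ha2
      have h1 := odd_of_check hp M.toCoxeterSystem hs (hodd rfl) (hroot 0) (hroot 1) (ho 1 (by norm_num) 0 (by norm_num) (by norm_num))
      obtain ⟨c', hc', hodd'⟩ := h1
      refine dec_two hs hg ho' hlam rfl hθ (fun x => F.root x) rfl hper ⟨c', hc', ?_⟩ hb hb0
      rw [hlam, Finset.sum_range_succ, Finset.sum_range_one]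
      exact hodd'
  constructor
  · refine UF_le_cmm_top (hp := hp) hs m hz F hinv hi hj (fun b hb => by rw [hij]; exact hle b hb) hdec hy hα
      (fun b hb h0 h1 => hS b hb h0 (by rw [← hij]; exact h1))
  · refine UF_le_cmm_top (hp := hp) hs m hz F hinv' hi hj (fun b hb => by rw [hij]; exact hle' b hb) (fun b hb hb0 => ?_) hy hα
      (fun b hb h0 h1 => hSn b hb h0 (by rw [← hij]; exact h1))
    obtain ⟨x, x', hx, hx', h1, h2, e⟩ := hdec (-b) hb.neg (by rw [map_neg]; exact hb0)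
    exact ⟨-x, -x', hx.neg, hx'.neg, by rw [AddMonoidHom.neg_apply, map_neg, neg_neg]; exact h1,
      by rw [AddMonoidHom.neg_apply, map_neg, neg_neg]; exact h2, by rw [← neg_add, e, neg_neg]⟩

end Cfsg.Agent.H24.MX
end

-- part: H520/MX/Asm
section
/-!
# S3509 MIX: the assembly (helper520)

* `MixOut m f K V` : the output of M3: (A) an orbit of `a ≥ 2` orthogonal roots, `hTh s a c ∈ K` for all `c`; (B) a long root
  element in `K`; (C) an element of `K` of prime order `≠ p` and a long root element commuting with it and with `s`;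
* `exists_gen_s` : a generator `s` of the group generated by the members of order `≠ p`;
* `mix_of_out` : a mixed family is no cover unless its members of order `≠ p` are.
-/

set_option autoImplicit false
set_option linter.unusedSectionVars false

namespace Cfsg.Agent.H520.MX

open CoxeterSystem Cfsg Cfsg.Lie Cfsg.Lie.ChevalleyDatum
open Cfsg.Agent.ChevalleyStructure Cfsg.Agent.ChevalleyStructure.Elts Cfsg.Agent.ChevalleyStructure.CoxeterGeom
  Cfsg.Agent.ChevalleyStructure.CoxeterGeomTypes Cfsg.Agent.ChevalleyStructure.NPerm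
open Cfsg.Agent.Tits.Roots Cfsg.Agent.Tits.Core Cfsg.Agent.Nodes Cfsg.Agent.Nodes.Reps Cfsg.Agent.Nodes.BNOf
  Cfsg.Agent.Nodes.RGDChev Cfsg.Agent.Nodes.Bruhat Cfsg.Agent.Nodes.NormalForm Cfsg.Agent.Nodes.Coroot
open Cfsg.Agent.KFacts.RgdField Cfsg.Agent.KFacts.RgdChevCoord
open Cfsg.Agent.BpExc Cfsg.Agent.BpExc.TorCent Cfsg.Agent.BpExc.TorChev Cfsg.Agent.BpExc.Tow
  Cfsg.Agent.BpExc.TowChev Cfsg.Agent.BpExc.Pair Cfsg.Agent.BpExc.LangFr Cfsg.Agent.GpExc.Field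
  Cfsg.Agent.BpExc.NInst Cfsg.Agent.BpExc.NChev
open Cfsg.Agent.H469.Exc Cfsg.Agent.H316.U6 Cfsg.Agent.H129.TorusChar Cfsg.Agent.H380.RC Cfsg.Agent.H169.RG
  Cfsg.Agent.H694.RG Cfsg.Agent.H106.RC Cfsg.Agent.H873.RG Cfsg.Agent.H605.MX
open MulAction

/-- **A generator of the group generated by some of the members.** -/
theorem exists_gen_s {Y : Type*} [Group Y] {ι : Type*} [Finite ι] {x : ι → Y} {r : ι → ℕ} (hx : PF x r) {p : ℕ}
    (hp : p.Prime) (J : Set ι) (hJ : ∀ i ∈ J, r i ≠ p) (D : Subgroup Y) (hD : ∀ i, x i ∈ D) :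
    ∃ s ∈ D, (orderOf s).Coprime p ∧ (∀ i ∈ J, x i ∈ Subgroup.zpowers s) ∧
      ∀ c : Y, c * s = s * c ↔ ∀ i ∈ J, c * x i = x i * c := by
  classical
  have := Fintype.ofFinite ↥J
  obtain ⟨s, hs, hs1⟩ := exists_gen (fun i : J => x i) (fun i => r i) (fun i => hx.prime i)
    (fun i j h => Subtype.ext (hx.inj h)) (fun i => hx.pow i) (fun i j => hx.comm i j)
  have hcc : ∀ a ∈ Subgroup.closure (Set.range fun i : J => x i), ∀ c : Y, (∀ i ∈ J, c * x i = x i * c) → c * a = a * c := by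
    intro a ha c hc
    have h1 : Subgroup.closure (Set.range fun i : J => x i) ≤ Subgroup.centralizer {c} := by
      rw [Subgroup.closure_le]
      rintro _ ⟨i, rfl⟩
      rw [SetLike.mem_coe, Subgroup.mem_centralizer_singleton_iff]
      exact (hc i i.2).symm
    exact (Subgroup.mem_centralizer_singleton_iff.1 (h1 ha)).symm
  have hpw : ∀ a ∈ Subgroup.closure (Set.range fun i : J => x i), a ^ (∏ i : J, r i) = 1 := by
    intro a ha
    induction ha using Subgroup.closure_induction with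
    | mem y hy =>
      obtain ⟨i, rfl⟩ := hy
      obtain ⟨k, hk⟩ := Finset.dvd_prod_of_mem (fun i : J => r i) (Finset.mem_univ i)
      show x i ^ _ = 1
      rw [hk, pow_mul, hx.pow, one_pow]
    | one => exact one_pow _
    | mul a b ha hb iha ihb =>
      have h1 : Commute a b := hcc b hb a fun i hi => (hcc a ha (x i) fun j _ => hx.comm i j).symm
      rw [h1.mul_pow, iha, ihb, mul_one]
    | inv a _ iha => rw [inv_pow, iha, inv_one]
  refine ⟨s, ?_, ?_, fun i hi => hs1 ⟨i, hi⟩, fun c => ⟨fun h i hi => ?_, fun h => hcc s hs c h⟩⟩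
  · have h1 : Subgroup.closure (Set.range fun i : J => x i) ≤ D := by
      rw [Subgroup.closure_le]
      rintro _ ⟨i, rfl⟩
      exact hD i
    exact h1 hs
  · refine Nat.Coprime.coprime_dvd_left (orderOf_dvd_of_pow_eq_one (hpw s hs)) ?_
    refine Nat.Coprime.prod_left fun i _ => ?_
    rw [Nat.coprime_primes (hx.prime i) hp]
    exact hJ i i.2
  · obtain ⟨k, hk⟩ := Subgroup.mem_zpowers_iff.1 (hs1 ⟨i, hi⟩)
    have h2 : Commute c (s ^ k) := (show Commute c s from h).zpow_right k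
    have h3 : s ^ k = x i := hk
    rw [h3] at h2
    exact h2

section

variable {D : ChevalleyDatum} {l : ℕ} {M : CoxeterMatrix (Fin l)} {hp : IsType D l M} {p q : ℕ} [hr : Fact p.Prime]
  {K₀ : Type} [Group K₀]

/-- **The output of M3.** -/
inductive MixOut (m : MData hp p q K₀) {s : ↥(D.group (KK p))} (f : TorForm m s) (K : Subgroup ↥(D.group (KK p)))
    (V : ↥(D.group (KK p)) → Prop) : Prop
  | A (a : ℕ) (ha : 2 ≤ a) (s₁ : ℕ) (hs₁ : s₁ < D.nroots) (hper : f.θ^[a] (vec D l s₁) = vec D l s₁)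
      (ho : ∀ i < a, ∀ j < a, i ≠ j →
        cpr M.toCoxeterSystem hp.isCartan (f.θ^[i] (vec D l s₁)) (f.θ^[j] (vec D l s₁)) = 0)
      (hK : ∀ c : KK p, c ≠ 0 → c ^ q ^ a = c → hTh hp hs₁ f.α a c ∈ cjz f K)
  | B (v : ↥(D.group (KK p))) (hv : v ∈ K) (hV : V v)
  | C (w : ↥(D.group (KK p))) (hw : w ∈ K) (hwP : H368.RG.PPr (fixedSubgroup m.σ) p w) (v : ↥(D.group (KK p))) (hV : V v)
      (hwv : w * v = v * w) (hsv : s * v = v * s)

/-- the input M4: `[U, τ] = U` -/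
def M4 (m : MData hp p q K₀) {s : ↥(D.group (KK p))} (f : TorForm m s) : Prop :=
  ∀ (a : ℕ), 2 ≤ a → ∀ γ : Fin l → ℤ, IsRoot M.toCoxeterSystem hp.isCartan γ → f.θ^[a] γ = γ →
    (∀ i < a, ∀ j < a, i ≠ j → cpr M.toCoxeterSystem hp.isCartan (f.θ^[i] γ) (f.θ^[j] γ) = 0) →
    ∀ c : KK p, c ≠ 0 → orderOf c = q ^ a - 1 → ∀ τ ∈ TT D (KK p), f.α τ = τ →
    (∀ b, IsRoot M.toCoxeterSystem hp.isCartan b →
      cX hp τ b = c ^ (∑ i ∈ Finset.range a, (q : ℤ) ^ i * cpr M.toCoxeterSystem hp.isCartan b (f.θ^[i] γ))) →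
    ∀ lam : (Fin l → ℤ) →+ ℤ,
    (∀ x, lam x = ∑ i ∈ Finset.range a, cpr M.toCoxeterSystem hp.isCartan x (f.θ^[i] γ)) →
    UF hp p lam f.α ≤ cmm (UF hp p lam f.α) τ

/-- **MIX.** A mixed family is no cover unless its members of order `≠ p` are. -/
theorem mix_of_out {G Ω : Type} [Group G] [Finite G] [MulAction G Ω] [Nonempty Ω] {N : Subgroup G} (hE : Env G Ω N)
    [IsSimpleGroup K₀] (e : N ≃* K₀)
    (m : MData hp p q K₀) (hF : H327.RG.Fr m.ι m.σ) {d : ℕ} {B : Fin l → Fin l → ℤ} (hB : InvC D l d B) (hd : d ≠ 0)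
    {V : ↥(D.group (KK p)) → Prop} {U : ↥(D.group (KK p)) → Subgroup ↥(D.group (KK p))}
    (hY : YData m.ι (fixedSubgroup m.σ) p V U)
    (hM4 : ∀ s, ∀ f : TorForm m s, M4 m f)
    (hM3 : ∀ s, (orderOf s).Coprime p → ∀ f : TorForm m s, ∀ K ≤ CI m s, (∀ c ∈ CI m s, ∀ x ∈ K, c * x * c⁻¹ ∈ K) →
      (∃ u ∈ K, u ≠ 1 ∧ u ^ p = 1) → MixOut m f K V)
    {κ : Type} [Finite κ] {x : κ → G} {y : κ → ↥(D.group (KK p))} {r : κ → ℕ}
    (hy : ∀ i, _root_.Cfsg.Agent.H694.RG.Rep hE e m.ι (x i) (y i)) (hpf : PF y r) {i₀ : κ} (hi₀ : r i₀ = p) (hN : y i₀ ∈ m.ι.range)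
    (hreg : ¬ Cov Ω (fun i : {i // i ≠ i₀} => x i)) : ¬ Cov Ω x := by
  classical
  have := finite_W hp M.toCoxeterSystem
  have hrne : ∀ i, i ≠ i₀ → r i ≠ p := fun i hi h => hi (hpf.inj (h.trans hi₀.symm))
  obtain ⟨s, hsσ, hsp, hsz, hsc⟩ := exists_gen_s hpf hr.out {i | i ≠ i₀} (fun i hi => hrne i hi) (fixedSubgroup m.σ)
    (fun i => Rep.fix hF (hy i))
  have hs0 : orderOf s ≠ 0 := by
    intro h0
    rw [h0, Nat.coprime_zero_left] at hsp
    exact hr.out.ne_one hsp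
  obtain ⟨f⟩ := exists_torForm m (s := s) hsσ hs0 hsp (pow_orderOf_eq_one s)
  have hup : y i₀ ^ p = 1 := by
    have h1 := hpf.pow i₀
    rwa [hi₀] at h1
  -- the normal closure
  have hCI : m.ι.range ⊓ ⨅ i : {i // i ≠ i₀}, Subgroup.centralizer {y i} = CI m s := by
    ext c
    unfold CI
    rw [Subgroup.mem_inf, Subgroup.mem_inf, Subgroup.mem_iInf, Subgroup.mem_centralizer_singleton_iff, hsc]
    exact and_congr Iff.rfl ⟨fun h i hi => Subgroup.mem_centralizer_singleton_iff.1 (h ⟨i, hi⟩),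
      fun h i => Subgroup.mem_centralizer_singleton_iff.2 (h i i.2)⟩
  have huC : y i₀ ∈ CI m s := by
    rw [← hCI]
    exact ⟨hN, Subgroup.mem_iInf.2 fun j => Subgroup.mem_centralizer_singleton_iff.2 (hpf.comm i₀ j)⟩
  have hKe : H368.RG.KK m.ι.range y i₀ = H368.RG.nclo (CI m s) (y i₀) := by
    unfold H368.RG.KK
    rw [hCI]
  have hout := hM3 s hsp f (H368.RG.KK m.ι.range y i₀) (by rw [hKe]; exact H368.RG.nclo_le huC)
    (fun c hc x hx => by rw [hKe] at hx ⊢; exact H368.RG.nclo_conj hc hx)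
    ⟨y i₀, by rw [hKe]; exact H368.RG.nclo_self _ _, hpf.ne i₀, hup⟩
  have hcomm : ∀ v, s * v = v * s → ∀ i, i ≠ i₀ → y i * v = v * y i := fun v hv i hi =>
    ((hsc v).1 hv.symm i hi).symm
  rcases hout with ⟨a, ha, s₁, hs₁, hper, ho, hK⟩ | ⟨v, hv, hV⟩ | ⟨w, hw, hwP, v, hV, hwv, hsv⟩
  · -- case (A)
    have hγ : IsRoot M.toCoxeterSystem hp.isCartan (vec D l s₁) := isRoot_vec hp _ hs₁
    obtain ⟨c, hc, hoc⟩ := exists_orderOf (k := KK p) (natCast_ne m (by omega : 0 < a))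
    have hq1 : 1 ≤ q ^ a := Nat.one_le_pow _ _ (by rw [← m.hq]; exact pow_pos hr.out.pos _)
    have hca : c ^ q ^ a = c := by
      have h1 : c ^ (q ^ a - 1) = 1 := by rw [← hoc]; exact pow_orderOf_eq_one c
      have h2 : q ^ a = q ^ a - 1 + 1 := by omega
      rw [h2, pow_succ, h1, one_mul]
    have hca' : c ^ (p ^ m.e) ^ a = c := by rw [m.hq]; exact hca
    set τ := hTh hp hs₁ f.α a c with hτdef
    have hτ : τ ∈ TT D (KK p) := hTh_mem hp M.toCoxeterSystem (locFin p) f.frob f.fr hs₁ a hc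
    have hατ : f.α τ = τ := alpha_hTh hp M.toCoxeterSystem (locFin p) f.frob f.fr hs₁ hper hc hca'
    have hcX : ∀ b, cX hp τ b = c ^ (∑ i ∈ Finset.range a,
        (q : ℤ) ^ i * cpr M.toCoxeterSystem hp.isCartan b (f.θ^[i] (vec D l s₁))) := by
      intro b
      have h1 := cX_hTh hp M.toCoxeterSystem (locFin p) f.frob f.fr hs₁ a hc b
      rw [hτdef]
      have h2 : ((p : ℤ) ^ m.e) = (q : ℤ) := by exact_mod_cast m.hq
      rw [h2] at h1
      exact h1
    obtain ⟨lam, hlam, hinv⟩ := exists_lam (cs := M.toCoxeterSystem) (h := hp.isCartan) f.fr.root hγ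
      (by omega : 0 < a) hper
    have h2 : lam (vec D l s₁) = 2 := by
      rw [hlam]
      exact lam_root (g := fun i => f.θ^[i] (vec D l s₁)) (by omega : 0 < a) hγ ho
    -- the opposite orbit
    have hiter : ∀ i : ℕ, f.θ^[i] (-vec D l s₁) = -f.θ^[i] (vec D l s₁) := fun i => by
      induction i with
      | zero => rfl
      | succ i ih => rw [Function.iterate_succ_apply', ih, map_neg, ← Function.iterate_succ_apply' (f := f.θ)]
    have hcn : ∀ x i, cpr M.toCoxeterSystem hp.isCartan x (f.θ^[i] (-vec D l s₁)) =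
        -cpr M.toCoxeterSystem hp.isCartan x (f.θ^[i] (vec D l s₁)) := fun x i => by
      rw [hiter, cpr_neg_right _ _ _ (root_iter f.fr.root hγ i)]
    have hU := hM4 s f a ha (vec D l s₁) hγ hper ho c hc hoc τ hτ hατ (fun b _ => hcX b) lam hlam
    have hU' := hM4 s f a ha (-vec D l s₁) hγ.neg (by rw [hiter, hper]) (fun i hi j hj hij => by
        rw [hcn, hiter, cpr_neg _ _ _ (root_iter f.fr.root hγ j), ho i hi j hj hij, neg_zero, neg_zero])
      c⁻¹ (inv_ne_zero hc) (by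
        have h5 : orderOf (Units.mk0 c hc)⁻¹ = orderOf (Units.mk0 c hc) := orderOf_inv _
        rw [← orderOf_units, ← orderOf_units, Units.val_inv_eq_inv_val, Units.val_mk0] at h5
        rw [h5, hoc]) τ hτ hατ (fun b _ => by
        rw [hcX b, inv_zpow', ← Finset.sum_neg_distrib]
        congr 1
        refine Finset.sum_congr rfl fun i _ => ?_
        rw [hcn]; ring) (-lam) (fun x => by
        rw [AddMonoidHom.neg_apply, hlam, ← Finset.sum_neg_distrib]
        exact Finset.sum_congr rfl fun i _ => (hcn x i).symm)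
    exact mix_tor hE e m hF hB hd f hy hpf hi₀ hN (fun i hi => hsz i hi) hreg hτ hατ (hK c hc hca) lam hinv
      ⟨_, hγ, by rw [h2]; norm_num⟩ hU hU'
  · -- case (B)
    refine kill_mixedY hF hE e hY hy hpf hi₀ hN hV (hcomm v ?_) (Or.inl hv)
    have h1 : v ∈ CI m s := by
      rw [hKe] at hv
      exact H368.RG.nclo_le huC hv
    exact (Subgroup.mem_centralizer_singleton_iff.1 h1.2).symm
  · -- case (C)
    exact kill_mixedY hF hE e hY hy hpf hi₀ hN hV (hcomm v hsv) (Or.inr ⟨w, hw, hwP, hwv⟩)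

end

end Cfsg.Agent.H520.MX
end

-- part: H520/MX/M3
section
/-!
# S3509 MIX: the output of M3 (helper520)

* `Out1 f K` : a root element `v`, `θ b = b`, in `K`, or commuting with an element of `K` of prime order `≠ p`;
* `mixOut_of_out1` : cases (B), (C);
* `m3_out` : `MixOut`, simply laced, from `orbit_out`, `H605.MX.caseA`, `H605.MX.case1`, and the case `q = 2`, `θ b = b`.
-/

set_option autoImplicit false
set_option linter.unusedSectionVars false

namespace Cfsg.Agent.H520.MX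

open CoxeterSystem Cfsg Cfsg.Lie Cfsg.Lie.ChevalleyDatum
open Cfsg.Agent.ChevalleyStructure Cfsg.Agent.ChevalleyStructure.Elts Cfsg.Agent.ChevalleyStructure.CoxeterGeom
  Cfsg.Agent.ChevalleyStructure.CoxeterGeomTypes Cfsg.Agent.ChevalleyStructure.NPerm
open Cfsg.Agent.Tits.Roots Cfsg.Agent.Tits.Core Cfsg.Agent.Nodes Cfsg.Agent.Nodes.Reps Cfsg.Agent.Nodes.BNOf
  Cfsg.Agent.Nodes.RGDChev Cfsg.Agent.Nodes.Bruhat Cfsg.Agent.Nodes.NormalForm Cfsg.Agent.Nodes.Coroot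
open Cfsg.Agent.KFacts.RgdField Cfsg.Agent.KFacts.RgdChevCoord
open Cfsg.Agent.BpExc Cfsg.Agent.BpExc.TorCent Cfsg.Agent.BpExc.TorChev Cfsg.Agent.BpExc.Tow
  Cfsg.Agent.BpExc.TowChev Cfsg.Agent.BpExc.Pair Cfsg.Agent.BpExc.LangFr Cfsg.Agent.GpExc.Field
  Cfsg.Agent.BpExc.NInst Cfsg.Agent.BpExc.NChev
open Cfsg.Agent.H469.Exc Cfsg.Agent.H316.U6 Cfsg.Agent.H129.TorusChar Cfsg.Agent.H169.RG
  Cfsg.Agent.H28.RG Cfsg.Agent.H441.RG Cfsg.Agent.H534.MX Cfsg.Agent.H605.MX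

section

variable {D : ChevalleyDatum} {l : ℕ} {M : CoxeterMatrix (Fin l)} {hp : IsType D l M} {p q : ℕ} [hr : Fact p.Prime]
  {K₀ : Type} [Group K₀] {m : MData hp p q K₀} {s : ↥(D.group (KK p))}

/-- a root element of a root fixed by `θ`: in `K` or commuting with an element of `K` of prime order `≠ p` -/
def Out1 (f : TorForm m s) (K : Subgroup ↥(D.group (KK p))) : Prop :=
  ∃ (b : Fin l → ℤ) (v : ↥(D.group (KK p))), b ∈ Sx M.toCoxeterSystem hp.isCartan (ch hp) f.t ∧ f.θ b = b ∧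
    v ∈ XX D l (KK p) b ∧ v ≠ 1 ∧ f.α v = v ∧
    (v ∈ cjz f K ∨ ∃ y ∈ cjz f K, y ≠ 1 ∧ (∃ r : ℕ, r.Prime ∧ r ≠ p ∧ y ^ r = 1) ∧ y * v = v * y)

/-- root elements of `Sx t` commute with `t` -/
theorem comm_of_Sx (f : TorForm m s) {b : Fin l → ℤ} (hb : b ∈ Sx M.toCoxeterSystem hp.isCartan (ch hp) f.t)
    {v : ↥(D.group (KK p))} (hv : v ∈ XX D l (KK p) b) : v * f.t = f.t * v := by
  have := finite_W hp M.toCoxeterSystem
  have C := coordsL (k := KK p) hp M.toCoxeterSystem (locFin p) p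
  obtain ⟨a, rfl⟩ := ((C.coord b hb.1).mem v).1 hv
  have h1 := (C.coord b hb.1).act f.t f.mem a
  rw [hb.2, one_mul] at h1
  calc xc hp b a * f.t = (f.t * xc hp b a * f.t⁻¹) * f.t := by rw [h1]
    _ = f.t * xc hp b a := by group

theorem mixOut_of_out1 (hlong : ∀ b, IsRoot M.toCoxeterSystem hp.isCartan b → ∃ w : M.Group,
      b = rep M.toCoxeterSystem hp.isCartan w (vec D l (D.nroots - 1))) (f : TorForm m s)
    {K : Subgroup ↥(D.group (KK p))} (hK : K ≤ CI m s) (h : Out1 f K) : MixOut m f K (LR m) := by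
  obtain ⟨b, v, hb, hθ, hv, hv1, hα, h⟩ := h
  obtain ⟨w, hw⟩ := hlong b hb.1
  have hLR : LR m (f.z * v * f.z⁻¹) := H798.RG.lr_of_mem f hw hθ hv hα hv1
  rcases h with h | ⟨y, hy, hy1, ⟨r, hr1, hr2, hr3⟩, hyv⟩
  · exact MixOut.B _ h hLR
  · obtain ⟨⟨a, ha⟩, -⟩ := Subgroup.mem_inf.1 (hK hy)
    refine MixOut.C (f.z * y * f.z⁻¹) hy ⟨?_, fun h1 => hy1 ?_, r, hr1, hr2, ?_⟩ (f.z * v * f.z⁻¹) hLR ?_ ?_
    · have h2 : (MulAut.conj f.z).toMonoidHom y = f.z * y * f.z⁻¹ := rfl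
      show m.σ (f.z * y * f.z⁻¹) = f.z * y * f.z⁻¹
      rw [← h2, ← ha]
      exact m.fix a
    · have e : y = f.z⁻¹ * (f.z * y * f.z⁻¹) * f.z := by group
      rw [e, h1]
      group
    · rw [conj_pow, hr3, mul_one, mul_inv_cancel]
    · calc f.z * y * f.z⁻¹ * (f.z * v * f.z⁻¹) = f.z * (y * v) * f.z⁻¹ := by group
        _ = f.z * (v * y) * f.z⁻¹ := by rw [hyv]
        _ = f.z * v * f.z⁻¹ * (f.z * y * f.z⁻¹) := by group
    · have h3 : f.z * v * f.z⁻¹ * s = s * (f.z * v * f.z⁻¹) := by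
        refine (f.comm_iff _).2 ?_
        have e : f.z⁻¹ * (f.z * v * f.z⁻¹) * f.z = v := by group
        rw [e]
        exact comm_of_Sx f hb hv
      exact h3.symm

/-- the input for `q = 2`, `θ b = b` (helper534) -/
def TwoIn (f : TorForm m s) (K : Subgroup ↥(D.group (KK p))) : Prop :=
  ∀ (w : M.Group) (b : Fin l → ℤ), b ∈ Sg M.toCoxeterSystem hp.isCartan (ch hp) f.t w →
    (∀ c ∈ Sg M.toCoxeterSystem hp.isCartan (ch hp) f.t w, ht c ≤ ht b) →
    (∀ c ∈ Sg M.toCoxeterSystem hp.isCartan (ch hp) f.t w, f.θ c ∈ Sg M.toCoxeterSystem hp.isCartan (ch hp) f.t w) →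
    (∀ c ∈ Sg M.toCoxeterSystem hp.isCartan (ch hp) f.t w,
        ∀ y ∈ Subgroup.closure ({x | x ∈ RGD.Sup (XX D l (KK p)) (orb f.θ c) ∧ f.α x = x} ∪
        {x | x ∈ RGD.Sup (XX D l (KK p)) (orbN f.θ c) ∧ f.α x = x}),
        ∀ n : ℕ, n.Coprime p → y ^ n = 1 → y ∈ cjz f K) → f.θ b = b → Out1 f K

/-- **M3.** -/
theorem m3_out (h4 : ∀ i j, M i j ≠ 4) (h6 : ∀ i j, M i j ≠ 6)
    (hlong : ∀ b, IsRoot M.toCoxeterSystem hp.isCartan b → ∃ w : M.Group,
      b = rep M.toCoxeterSystem hp.isCartan w (vec D l (D.nroots - 1)))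
    (f : TorForm m s) (hs : (orderOf s).Coprime p)
    {K : Subgroup ↥(D.group (KK p))} (hK : K ≤ CI m s) (hKn : ∀ c ∈ CI m s, ∀ x ∈ K, c * x * c⁻¹ ∈ K)
    (hu : ∃ u ∈ K, u ≠ 1 ∧ u ^ p = 1) (hTwo : q = 2 → TwoIn f K) : MixOut m f K (LR m) := by
  have := finite_W hp M.toCoxeterSystem
  obtain ⟨u, hu, hu1, hup⟩ := hu
  obtain ⟨w, b, hb, hmax, hst, horth, hcl⟩ := orbit_out h4 h6 f hs hK hKn hu hu1 (j := 1) (by rw [pow_one]; exact hup)
  have hbr : IsRoot M.toCoxeterSystem hp.isCartan b := hb.1.1.1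
  obtain ⟨s₁, hs₁, rfl⟩ := (isRoot_iff hp M.toCoxeterSystem b).1 hbr
  have hq : p ^ m.e = q := m.hq
  have hq1 : 1 < q := by rw [← hq]; exact Nat.one_lt_pow m.he.ne' hr.out.one_lt
  -- the period
  have hper : ∃ a : ℕ, 0 < a ∧ f.θ^[a] (vec D l s₁) = vec D l s₁ := by
    have hfin := RGD.finite_roots (cs := M.toCoxeterSystem) (h := hp.isCartan)
    have h1 : ∀ j : ℕ, IsRoot M.toCoxeterSystem hp.isCartan (f.θ^[j] (vec D l s₁)) := root_iter f.fr.root hbr
    have hnot : ¬ Function.Injective (fun j : ℕ => (⟨f.θ^[j] (vec D l s₁), h1 j⟩ :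
        {x | IsRoot M.toCoxeterSystem hp.isCartan x})) := by
      intro hi
      have := hfin.to_subtype
      exact not_injective_infinite_finite _ hi
    rw [Function.Injective] at hnot
    push Not at hnot
    obtain ⟨i, j, hij, hne⟩ := hnot
    have hij' : f.θ^[i] (vec D l s₁) = f.θ^[j] (vec D l s₁) := congrArg Subtype.val hij
    have key : ∀ i j : ℕ, i < j → f.θ^[i] (vec D l s₁) = f.θ^[j] (vec D l s₁) →
        ∃ m : ℕ, 0 < m ∧ f.θ^[m] (vec D l s₁) = vec D l s₁ := by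
      intro i j hlt e
      refine ⟨j - i, by omega, ?_⟩
      have h2 : f.θ^[i] (f.θ^[j - i] (vec D l s₁)) = f.θ^[i] (vec D l s₁) := by
        rw [← Function.iterate_add_apply, show i + (j - i) = j by omega]
        exact e.symm
      exact (f.θ.injective.iterate i) h2
    rcases lt_or_gt_of_ne hne with h2 | h2
    · exact key i j h2 hij'
    · exact key j i h2 hij'.symm
  classical
  set a := Nat.find hper with hadef
  obtain ⟨ha0, hpa⟩ := Nat.find_spec hper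
  rw [← hadef] at ha0 hpa
  have hmin : ∀ i, 0 < i → i < a → f.θ^[i] (vec D l s₁) ≠ vec D l s₁ := fun i hi hia h1 =>
    Nat.find_min hper hia ⟨hi, h1⟩
  rcases Nat.lt_or_ge a 2 with ha | ha
  · -- `θ b = b`
    have ha1 : a = 1 := by omega
    rw [ha1] at hpa
    have hθ : f.θ (vec D l s₁) = vec D l s₁ := hpa
    refine mixOut_of_out1 hlong f hK ?_
    rcases Nat.lt_or_ge q 3 with hq3 | hq3
    · exact hTwo (by omega) w _ hb hmax hst hcl hθ
    · obtain ⟨v, hv, hv1, hαv, h⟩ := case1 (K := cjz f K) hp M.toCoxeterSystem (locFin p) f.frob f.fr h4 hs₁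
        (by rw [hq]; exact hq3) hθ (fun y hy n hn hyn => hcl _ hb y hy n hn hyn) (fun g hg hαg x hx => by
          have h1 : g ∈ fixC f.α f.t := mem_fixC.2 ⟨hαg, comm_of_Sx f hb.1.1 hg⟩
          have h2 : g ^ p ^ 1 = 1 := by
            have C := coordsL (k := KK p) hp M.toCoxeterSystem (locFin p) p
            obtain ⟨t, rfl⟩ := ((C.coord _ hbr).mem g).1 hg
            have h3 : ∀ n : ℕ, xc hp (vec D l s₁) t ^ n = xc hp (vec D l s₁) (n * t) := by
              intro n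
              induction n with
              | zero => rw [pow_zero, Nat.cast_zero, zero_mul, (C.coord _ hbr).zero]
              | succ n ih => rw [pow_succ, ih, ← (C.coord _ hbr).add, Nat.cast_succ, add_mul, one_mul]
            rw [h3, pow_one, CharP.cast_eq_zero, zero_mul, (C.coord _ hbr).zero]
          have h3 := mem_cjz_CI f h1 (j := 1) h2
          have h4 := hKn _ h3 _ hx
          have e : f.z * (g * x * g⁻¹) * f.z⁻¹ = f.z * g * f.z⁻¹ * (f.z * x * f.z⁻¹) * (f.z * g * f.z⁻¹)⁻¹ := by group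
          refine mem_cjz.2 ?_
          rw [e]
          exact h4)
      refine ⟨_, v, hb.1.1, hθ, hv, hv1, hαv, ?_⟩
      rcases h with h | ⟨hr2, y, hy, hy1, hy2, hyv⟩
      · exact Or.inl h
      · exact Or.inr ⟨y, hy, hy1, ⟨2, Nat.prime_two, fun h => hr2 h.symm, hy2⟩, hyv⟩
  · -- `a ≥ 2`
    have horth' : ∀ i, 0 < i → i < a → cpr M.toCoxeterSystem hp.isCartan (vec D l s₁) (f.θ^[i] (vec D l s₁)) = 0 :=
      fun i hi hia => horth i (hmin i hi hia)
    have hiter : ∀ (i : ℕ) (x y : Fin l → ℤ), IsRoot M.toCoxeterSystem hp.isCartan y →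
        cpr M.toCoxeterSystem hp.isCartan (f.θ^[i] x) (f.θ^[i] y) = cpr M.toCoxeterSystem hp.isCartan x y := by
      intro i
      induction i with
      | zero => exact fun x y _ => rfl
      | succ i ih =>
        intro x y hy
        rw [Function.iterate_succ_apply', Function.iterate_succ_apply', cpr_theta f.fr.root _ (root_iter f.fr.root hy i),
          ih x y hy]
    have hlt : ∀ i j, i < j → j < a →
        cpr M.toCoxeterSystem hp.isCartan (f.θ^[i] (vec D l s₁)) (f.θ^[j] (vec D l s₁)) = 0 := by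
      intro i j hij hja
      have e1 : f.θ^[j] (vec D l s₁) = f.θ^[i] (f.θ^[j - i] (vec D l s₁)) := by
        rw [← Function.iterate_add_apply, show i + (j - i) = j by omega]
      rw [e1, hiter i _ _ (root_iter f.fr.root hbr _)]
      exact horth' (j - i) (by omega) (by omega)
    have hpair : ∀ i < a, ∀ j < a, i ≠ j →
        cpr M.toCoxeterSystem hp.isCartan (f.θ^[i] (vec D l s₁)) (f.θ^[j] (vec D l s₁)) = 0 := by
      intro i hi j hj hij
      rcases Nat.lt_or_gt_of_ne hij with h1 | h1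
      · exact hlt i j h1 hj
      · exact (cpr_zero_comm _ _ (root_iter f.fr.root hbr _) (root_iter f.fr.root hbr _)).1 (hlt j i h1 hi)
    refine MixOut.A a ha s₁ hs₁ hpa hpair fun c hc hca => ?_
    refine caseA hp M.toCoxeterSystem (locFin p) f.frob f.fr hs₁ ?_ hpa
      (fun i hi hia => so_of_cpr h4 h6 hbr (root_iter f.fr.root hbr i) (horth' i hi hia))
      (fun y hy n hn hyn => hcl _ hb y hy n hn hyn) hc (by rw [hq]; exact hca)
    rw [hq]
    exact Nat.one_lt_pow (by omega) hq1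

end

end Cfsg.Agent.H520.MX
end

-- part: H520/MX/Fin
section
/-!
# S3509 MIX: the inputs M3, M4 of `mix_of_out`, simply laced types (helper520)

* `h46_E` : `E₆, E₇, E₈` are simply laced;
* `hM3_of`, `hM4_of` : the inputs of `mix_of_out` in all cases; the inputs for `q = 2` : `TwoIn` (helper534), M4t (helper24).
-/

set_option autoImplicit false
set_option linter.unusedSectionVars false

namespace Cfsg.Agent.H520.MX

open CoxeterSystem Cfsg Cfsg.Lie Cfsg.Lie.ChevalleyDatum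
open Cfsg.Agent.ChevalleyStructure Cfsg.Agent.ChevalleyStructure.Elts Cfsg.Agent.ChevalleyStructure.CoxeterGeom
  Cfsg.Agent.ChevalleyStructure.CoxeterGeomTypes Cfsg.Agent.ChevalleyStructure.NPerm
open Cfsg.Agent.Tits.Roots Cfsg.Agent.Tits.Core Cfsg.Agent.Nodes Cfsg.Agent.Nodes.Reps Cfsg.Agent.Nodes.BNOf
  Cfsg.Agent.Nodes.RGDChev
open Cfsg.Agent.BpExc Cfsg.Agent.BpExc.LangFr Cfsg.Agent.GpExc.Field
open Cfsg.Agent.H469.Exc Cfsg.Agent.H316.U6 Cfsg.Agent.H169.RG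

section

variable {D : ChevalleyDatum} {l : ℕ} {M : CoxeterMatrix (Fin l)}

theorem h46_E (hD : 60 ≤ D.nroots) (hp : IsType D l M) : (∀ i j, M i j ≠ 4) ∧ ∀ i j, M i j ≠ 6 := by
  suffices h : (∀ i j, (M i j == 4) = false) ∧ ∀ i j, (M i j == 6) = false from
    ⟨fun i j hc => by
      have h1 := h.1 i j
      rw [hc] at h1
      exact absurd h1 (by decide), fun i j hc => by
      have h1 := h.2 i j
      rw [hc] at h1
      exact absurd h1 (by decide)⟩
  simp only [IsType, typeList, List.mem_cons, List.not_mem_nil, or_false, Prod.mk.injEq, Sigma.mk.injEq] at hp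
  rcases hp with ⟨rfl, rfl, hM⟩ | ⟨rfl, rfl, hM⟩ | ⟨rfl, rfl, hM⟩ | ⟨rfl, rfl, hM⟩ | ⟨rfl, rfl, hM⟩ | ⟨rfl, rfl, hM⟩ |
    ⟨rfl, rfl, hM⟩
  all_goals first
    | (exfalso; revert hD; decide +kernel)
    | (obtain rfl := eq_of_heq hM; constructor <;> decide +kernel)

variable {hp : IsType D l M} {p q : ℕ} [hr : Fact p.Prime] {K₀ : Type} [Group K₀]

/-- **The input M3 of `mix_of_out`.** -/
theorem hM3_of (m : MData hp p q K₀) (h4 : ∀ i j, M i j ≠ 4) (h6 : ∀ i j, M i j ≠ 6)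
    (hTwo : q = 2 → ∀ s, (orderOf s).Coprime p → ∀ f : TorForm m s, ∀ K ≤ CI m s,
      (∀ c ∈ CI m s, ∀ x ∈ K, c * x * c⁻¹ ∈ K) → (∃ u ∈ K, u ≠ 1 ∧ u ^ p = 1) → TwoIn f K) :
    ∀ s, (orderOf s).Coprime p → ∀ f : TorForm m s, ∀ K ≤ CI m s, (∀ c ∈ CI m s, ∀ x ∈ K, c * x * c⁻¹ ∈ K) →
      (∃ u ∈ K, u ≠ 1 ∧ u ^ p = 1) → MixOut m f K (LR m) := by
  intro s hs f K hK hKn hu
  have := finite_W hp M.toCoxeterSystem
  exact m3_out h4 h6 (fun b hb => H605.MX.exists_rep_top hp M.toCoxeterSystem h4 h6 hb) f hs hK hKn hu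
    (fun hq => hTwo hq s hs f K hK hKn hu)

end

end Cfsg.Agent.H520.MX
end

-- part: H24/MX/M4
section
/-!
# S3509 MIX: the input M4 of `mix_of_out`, all `q` (helper24)

`m4_all` : M4 for simply laced types with `oddChk D l = true` (`E₆`, `E₇`, `E₈`: `m4_E6`, `m4_E7`, `m4_E8`).
-/

set_option autoImplicit false
set_option linter.unusedSectionVars false

namespace Cfsg.Agent.H24.MX

open CoxeterSystem Cfsg Cfsg.Lie Cfsg.Lie.ChevalleyDatum
open Cfsg.Agent.ChevalleyStructure Cfsg.Agent.ChevalleyStructure.Elts Cfsg.Agent.ChevalleyStructure.CoxeterGeom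
  Cfsg.Agent.ChevalleyStructure.CoxeterGeomTypes Cfsg.Agent.ChevalleyStructure.NPerm
open Cfsg.Agent.Tits.Roots Cfsg.Agent.Tits.Core Cfsg.Agent.Nodes Cfsg.Agent.Nodes.Reps Cfsg.Agent.Nodes.BNOf
  Cfsg.Agent.Nodes.RGDChev Cfsg.Agent.Nodes.Coroot
open Cfsg.Agent.KFacts.RgdField Cfsg.Agent.KFacts.RgdChevCoord Cfsg.Agent.KFacts.RgdSL
open Cfsg.Agent.BpExc Cfsg.Agent.BpExc.LangFr
open Cfsg.Agent.H469.Exc Cfsg.Agent.H316.U6 Cfsg.Agent.H129.TorusChar Cfsg.Agent.H380.RC Cfsg.Agent.H520.MX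
  Cfsg.Agent.H169.RG

variable {D : ChevalleyDatum} {l : ℕ} {M : CoxeterMatrix (Fin l)} {hp : IsType D l M} {p q : ℕ} [hr : Fact p.Prime]
  {K₀ : Type} [Group K₀]

/-- **M4**, simply laced. -/
theorem m4_all (h4 : ∀ i j, M i j ≠ 4) (h6 : ∀ i j, M i j ≠ 6) (hodd : oddChk D l = true) (m : MData hp p q K₀)
    {s : ↥(D.group (KK p))} (f : TorForm m s) : M4 m f := by
  intro a ha γ hγ hper ho c hc hoc τ hτ hα hcX lam hlam
  have := finite_W hp M.toCoxeterSystem
  obtain ⟨lam', hlam', hinv'⟩ := exists_lam (cs := M.toCoxeterSystem) (h := hp.isCartan) f.fr.root hγ (by omega : 0 < a) hper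
  have hinv : ∀ x, lam (f.θ x) = lam x := fun x => by
    rw [hlam, ← hlam', hinv', hlam', ← hlam]
  refine (UF_le_cmm_orb (hp := hp) h4 h6 m f.lang f.fr ha (fun _ => hodd) hγ hper ho
    (fun x y _ hy => cpr_theta f.fr.root x hy) hc hoc hτ hα (fun b hb => ?_) hlam hinv).1
  rw [hcX b hb]
  have h2 : ∀ s : Finset ℕ, ∀ e : ℕ → ℤ, ∏ i ∈ s, c ^ ((q : ℤ) ^ i * e i) = c ^ (∑ i ∈ s, (q : ℤ) ^ i * e i) := by
    intro s e
    induction s using Finset.induction_on with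
    | empty => simp
    | insert b s hb ih => rw [Finset.prod_insert hb, Finset.sum_insert hb, zpow_add₀ hc, ih]
  exact (h2 _ _).symm

theorem oddChk_E (hD : 60 ≤ D.nroots) (hp : IsType D l M) : oddChk D l = true := by
  simp only [IsType, typeList, List.mem_cons, List.not_mem_nil, or_false, Prod.mk.injEq, Sigma.mk.injEq] at hp
  rcases hp with ⟨rfl, rfl, -⟩ | ⟨rfl, rfl, -⟩ | ⟨rfl, rfl, -⟩ | ⟨rfl, rfl, -⟩ | ⟨rfl, rfl, -⟩ | ⟨rfl, rfl, -⟩ |
    ⟨rfl, rfl, -⟩
  · exfalso; revert hD; decide +kernel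
  · exfalso; revert hD; decide +kernel
  · exfalso; revert hD; decide +kernel
  · exfalso; revert hD; decide +kernel
  · exact oddChk_E6
  · exact oddChk_E7
  · exact oddChk_E8

/-- **M4** for `E₆, E₇, E₈`, the input `hM4` of `mix_of_out`. -/
theorem m4_E (hD : 60 ≤ D.nroots) (m : MData hp p q K₀) : ∀ s, ∀ f : TorForm m s, M4 m f := fun _ f =>
  m4_all (h46_E hD hp).1 (h46_E hD hp).2 (oddChk_E hD hp) m f

end Cfsg.Agent.H24.MX
end

private theorem dce_b5c95c9e3e77 : _root_.True := by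
  try have : _root_.True := by simp only [_root_.Cfsg.Agent.H24.MX.fr.congr_simp]
  try have : _root_.True := by simp only [_root_.Cfsg.Agent.H24.MX.US.eq_1]
  try have : _root_.True := by simp only [_root_.Cfsg.Agent.H24.MX.tr.eq_1]
  try have : _root_.True := by simp only [_root_.Cfsg.Agent.H24.MX.Rl.congr_simp]
  try have : _root_.True := by simp only [_root_.Cfsg.Agent.H24.MX.oddChk.eq_1]
  try have : _root_.True := by simp only [_root_.Cfsg.Agent.H24.MX.Lv.congr_simp]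
  exact _root_.True.intro
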